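import Mathlib

/-!
The alternating group of degree seven has at most nine classes.
-/

set_option autoImplicit false

namespace Cfsg.Agent.Fus.Ten

open Equiv Equiv.Perm

/-- Representatives of the classes. -/
def altReps : List (Perm (Fin 7)) :=
  [1, swap 0 1 * swap 2 3, swap 0 1 * swap 1 2, swap 0 1 * swap 1 2 * (swap 3 4 * swap 4 5),
    swap 0 1 * swap 1 2 * (swap 3 4 * swap 5 6), swap 0 1 * swap 1 2 * swap 2 3 * swap 4 5,
    swap 0 1 * swap 1 2 * swap 2 3 * swap 3 4,
    swap 0 1 * swap 1 2 * swap 2 3 * swap 3 4 * swap 4 5 * swap 5 6,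
    swap 0 1 * (swap 0 1 * swap 1 2 * swap 2 3 * swap 3 4 * swap 4 5 * swap 5 6) * (swap 0 1)⁻¹]

/-- The cycle types of the even permutations. -/
def altTypes : List (Multiset ℕ) := [0, {2, 2}, {3}, {3, 3}, {3, 2, 2}, {4, 2}, {5}, {7}]

theorem altTypes_data : ∀ t ∈ altTypes, ∃ r ∈ altReps,
    ∃ k ∈ [swap (0 : Fin 7) 1, swap 3 4, swap 4 5, swap 5 6, swap 0 3 * swap 1 4 * swap 2 5],
      r.cycleType = t ∧ Perm.sign k = -1 ∧ k * r * k⁻¹ ∈ altReps := by
  decide +kernel

theorem mem_altTypes (m : Multiset ℕ) (h2 : ∀ x ∈ m, 2 ≤ x) (hs : m.sum ≤ 7) (he : Even (m.sum + m.card)) :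
    m ∈ altTypes := by
  induction m using Quotient.inductionOn with | _ l => ?_
  simp only [Multiset.quot_mk_to_coe, Multiset.mem_coe, Multiset.sum_coe, Multiset.coe_card] at h2 hs he ⊢
  rw [Nat.even_iff] at he
  rcases l with _ | ⟨a, _ | ⟨b, _ | ⟨c, _ | ⟨d, t⟩⟩⟩⟩
  · decide
  · simp only [List.sum_cons, List.sum_nil, List.length_cons, List.length_nil] at hs he
    have := h2 a (by simp)
    have : a ≤ 7 := by omega
    interval_cases a <;> first | omega | decide
  · simp only [List.sum_cons, List.sum_nil, List.length_cons, List.length_nil] at hs he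
    have := h2 a (by simp); have := h2 b (by simp)
    have : a ≤ 5 := by omega
    have : b ≤ 5 := by omega
    interval_cases a <;> interval_cases b <;> first | omega | decide
  · simp only [List.sum_cons, List.sum_nil, List.length_cons, List.length_nil] at hs he
    have := h2 a (by simp); have := h2 b (by simp); have := h2 c (by simp)
    have : a ≤ 3 := by omega
    have : b ≤ 3 := by omega
    have : c ≤ 3 := by omega
    interval_cases a <;> interval_cases b <;> interval_cases c <;> first | omega | decide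
  · simp only [List.sum_cons] at hs
    have := h2 a (by simp); have := h2 b (by simp); have := h2 c (by simp); have := h2 d (by simp)
    omega

theorem altReps_sign : ∀ r ∈ altReps, Perm.sign r = 1 := by simp [altReps]

theorem altReps_even : ∀ r ∈ altReps, r ∈ alternatingGroup (Fin 7) := fun r hr =>
  Perm.mem_alternatingGroup.2 (altReps_sign r hr)

theorem alt_seven_classes : Nat.card (ConjClasses (alternatingGroup (Fin 7))) ≤ 9 := by
  let f : Fin altReps.length → ConjClasses (alternatingGroup (Fin 7)) :=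
    fun i => ConjClasses.mk ⟨altReps[i], altReps_even _ (List.getElem_mem _)⟩
  refine (Nat.card_le_card_of_surjective f fun c => ?_).trans_eq (Nat.card_fin _)
  obtain ⟨g, rfl⟩ := ConjClasses.mk_surjective c
  have hg : Perm.sign (g : Perm (Fin 7)) = 1 := Perm.mem_alternatingGroup.1 g.2
  have ht : (g : Perm (Fin 7)).cycleType ∈ altTypes := by
    refine mem_altTypes _ (fun x hx => Perm.two_le_of_mem_cycleType hx) ?_ ?_
    · rw [Perm.sum_cycleType]
      exact (Finset.card_le_univ _).trans_eq (Fintype.card_fin 7)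
    · rw [Perm.sign_of_cycleType] at hg
      by_contra ho
      rw [(Nat.not_even_iff_odd.1 ho).neg_one_pow] at hg
      exact absurd hg (by decide)
  obtain ⟨r, hr, k, -, hrt, hk, hkr⟩ := altTypes_data _ ht
  obtain ⟨π, hπ⟩ := _root_.isConj_iff.1 (Perm.isConj_iff_cycleType_eq.2 hrt.symm)
  suffices h : ∃ s ∈ altReps, ∃ τ : Perm (Fin 7), Perm.sign τ = 1 ∧ τ * g * τ⁻¹ = s by
    obtain ⟨s, hs, τ, hτ, e⟩ := h
    obtain ⟨i, hi, rfl⟩ := List.getElem_of_mem hs
    refine ⟨⟨i, hi⟩, (ConjClasses.mk_eq_mk_iff_isConj.2 (_root_.isConj_iff.2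
      ⟨⟨τ, Perm.mem_alternatingGroup.2 hτ⟩, Subtype.ext ?_⟩)).symm⟩
    simpa using e
  rcases Int.units_eq_one_or (Perm.sign π) with hs | hs
  · exact ⟨r, hr, π, hs, hπ⟩
  · refine ⟨_, hkr, k * π, by rw [map_mul, hk, hs]; rfl, ?_⟩
    rw [← hπ, _root_.mul_inv_rev]
    group

end Cfsg.Agent.Fus.Ten
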