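import Cfsg.Agent.Lib.Fus.TenClasses.Search
import Cfsg.Agent.Lib.Fus.NineClasses.Sound

/-!
The search for ten classes: what the primitive functions compute.
-/

set_option autoImplicit false

namespace Cfsg.Agent.Fus.Ten

open Cfsg.Agent.Fus.Nine (forceL_eq blt_false blt_true ble_false primeB_sound strip)

theorem beq_iff {a b : ℕ} : Nat.beq a b = true ↔ a = b := ⟨Nat.eq_of_beq_eq_true, fun h => h ▸ Nat.beq_refl a⟩

theorem beq_false {a b : ℕ} (h : a ≠ b) : Nat.beq a b = false :=
  Bool.eq_false_iff.2 fun e => h (beq_iff.1 e)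

theorem mod_beq {a b : ℕ} : Nat.beq (Nat.mod a b) 0 = true ↔ b ∣ a := by
  rw [beq_iff]; exact Nat.dvd_iff_mod_eq_zero.symm

theorem ble_true {a b : ℕ} (h : a ≤ b) : Nat.ble a b = true := Nat.ble_eq ▸ h

theorem force_eq (n : ℕ) (k : ℕ → Bool) : force n k = k n := by cases n <;> rfl

theorem allR_eq {α : Type} (f : α → Bool) (l : List α) : allR f l = l.all f := by
  induction l with
  | nil => rfl
  | cons x l ih =>
    show (f x && allR f l) = _
    rw [ih]; rfl

theorem anyR_eq {α : Type} (f : α → Bool) (l : List α) : anyR f l = l.any f := by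
  induction l with
  | nil => rfl
  | cons x l ih =>
    show (f x || anyR f l) = _
    rw [ih]; rfl

theorem cntR_eq {α : Type} (f : α → Bool) (l : List α) : cntR f l = l.countP f := by
  induction l with
  | nil => rfl
  | cons x l ih =>
    show (bif f x then Nat.add (cntR f l) 1 else cntR f l) = _
    rw [ih, List.countP_cons]
    cases f x <;> rfl

theorem foldR_eq {α : Type} (f : ℕ → α → ℕ) : ∀ (l : List α) (z : ℕ), foldR f l z = l.foldl f z
  | [], _ => rfl
  | x :: l, z => by
    show foldR f l (f z x) = _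
    rw [foldR_eq f l]; rfl

theorem loopR_sound (f : ℕ → Bool) (s : ℕ) : ∀ n, loopR f s n = true → ∀ v, s ≤ v → v < s + n → f v = true
  | 0, _, v, h1, h2 => by omega
  | n + 1, h, v, h1, h2 => by
    have h' : (f (Nat.add s n) && loopR f s n) = true := h
    rw [Bool.and_eq_true] at h'
    rcases eq_or_lt_of_le (show v ≤ s + n by omega) with e | hlt
    · rw [e]; exact h'.1
    · exact loopR_sound f s n h'.2 v h1 hlt

theorem strip_dvd (q : ℕ) : ∀ f n, strip q f n ∣ n
  | 0, n => dvd_rfl
  | f + 1, n => by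
    rw [Nine.strip]
    by_cases h : n % q = 0
    · rw [show (n % q == 0) = true by simpa using h, cond_true]
      exact (strip_dvd q f _).trans (Nat.div_dvd_of_dvd (Nat.dvd_of_mod_eq_zero h))
    · rw [show (n % q == 0) = false by simpa using h, cond_false]

theorem dvd_strip (q : ℕ) {r : ℕ} (hr : r.Prime) (hne : ¬ r ∣ q) : ∀ f n, r ∣ n → r ∣ strip q f n
  | 0, _, h => h
  | f + 1, n, hd => by
    rw [Nine.strip]
    by_cases h : n % q = 0
    · rw [show (n % q == 0) = true by simpa using h, cond_true]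
      refine dvd_strip q hr hne f _ ?_
      have e := Nat.div_mul_cancel (Nat.dvd_of_mod_eq_zero h)
      rw [← e] at hd
      exact ((Nat.Prime.dvd_mul hr).1 hd).resolve_right hne
    · rw [show (n % q == 0) = false by simpa using h, cond_false]
      exact hd

theorem not_dvd_strip {q : ℕ} (hq : 2 ≤ q) : ∀ f n, 0 < n → n ≤ f → ¬ q ∣ strip q f n
  | 0, n, h1, h2 => by omega
  | f + 1, n, h1, h2 => by
    rw [Nine.strip]
    by_cases h : n % q = 0
    · rw [show (n % q == 0) = true by simpa using h, cond_true]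
      have hle := Nat.le_of_dvd h1 (Nat.dvd_of_mod_eq_zero h)
      have hlt := Nat.div_lt_self h1 hq
      exact not_dvd_strip hq f _ (Nat.div_pos hle (by omega)) (by omega)
    · rw [show (n % q == 0) = false by simpa using h, cond_false]
      exact fun hd => h (Nat.mod_eq_zero_of_dvd hd)

theorem pfacT_spec : ∀ f d n, 2 ≤ d → 0 < n → n < d + f → (∀ r, r.Prime → r ∣ n → d ≤ r) →
    ∀ r, r ∈ pfacT f d n ↔ r.Prime ∧ r ∣ n
  | 0, d, n, hd, hn, hf, hlo, r => by
    simp only [pfacT, List.not_mem_nil, false_iff, not_and]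
    intro hr hrn
    have := hlo r hr hrn
    have := Nat.le_of_dvd hn hrn
    omega
  | f + 1, d, n, hd, hn, hf, hlo, r => by
    rw [pfacT]
    by_cases hsq : n < d * d
    · rw [blt_true hsq, cond_true]
      have hprime : 1 < n → n.Prime := fun h1 => by
        refine Nat.prime_def_le_sqrt.2 ⟨h1, fun m hm hs hmd => ?_⟩
        obtain ⟨r, hr, hrm⟩ := Nat.exists_prime_and_dvd (show m ≠ 1 by omega)
        have h2 := hlo r hr (hrm.trans hmd)
        have h3 := Nat.le_of_dvd (by omega) hrm
        have := Nat.le_sqrt.1 hs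
        nlinarith
      by_cases h1 : 1 < n
      · rw [blt_true h1, cond_true, List.mem_singleton]
        exact ⟨fun e => by subst e; exact ⟨hprime h1, dvd_rfl⟩,
          fun ⟨hr, hrn⟩ => ((Nat.dvd_prime (hprime h1)).1 hrn).resolve_left hr.ne_one⟩
      · rw [blt_false (not_lt.1 h1), cond_false]
        simp only [List.not_mem_nil, false_iff, not_and]
        intro hr hrn
        have := Nat.le_of_dvd hn hrn
        have := hr.two_le
        omega
    · rw [blt_false (not_lt.1 hsq), cond_false]
      by_cases hdn : d ∣ n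
      · rw [mod_beq.2 hdn, cond_true]
        have hdp : d.Prime := by
          obtain ⟨r, hr, hrd⟩ := Nat.exists_prime_and_dvd (show d ≠ 1 by omega)
          have := Nat.le_of_dvd (by omega) hrd
          have := hlo r hr (hrd.trans hdn)
          exact (show r = d by omega) ▸ hr
        have hsd := strip_dvd d n n
        have hspos : 0 < strip d n n := Nat.pos_of_dvd_of_pos hsd hn
        have hsle := Nat.le_of_dvd hn hsd
        have ih := pfacT_spec f (d + 1) (strip d n n) (by omega) hspos (by omega) (fun r hr hrs => by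
          have h1 := hlo r hr (hrs.trans hsd)
          have h2 : r ≠ d := fun e => not_dvd_strip hd n n hn le_rfl (e ▸ hrs)
          omega) r
        rw [List.mem_cons, ih]
        constructor
        · rintro (rfl | ⟨hr, hrs⟩)
          exacts [⟨hdp, hdn⟩, ⟨hr, hrs.trans hsd⟩]
        · rintro ⟨hr, hrn⟩
          by_cases e : r = d
          · exact Or.inl e
          · exact Or.inr ⟨hr, dvd_strip d hr (fun h => e ((Nat.prime_dvd_prime_iff_eq hr hdp).1 h)) n n hrn⟩
      · rw [show Nat.beq (Nat.mod n d) 0 = false from Bool.eq_false_iff.2 fun e => hdn (mod_beq.1 e), cond_false]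
        refine pfacT_spec f (d + 1) n (by omega) hn (by omega) (fun r hr hrn => ?_) r
        have h1 := hlo r hr hrn
        have h2 : r ≠ d := fun e => hdn (e ▸ hrn)
        omega

/-- A list of primes. -/
def GoodP (P : List ℕ) : Prop := ∀ q ∈ P, Nat.Prime q

theorem stripAll_cons (q : ℕ) (P : List ℕ) (n : ℕ) :
    stripAll (q :: P) n = stripAll P (bif Nat.beq (Nat.mod n q) 0 then strip q 64 n else n) := rfl

theorem stripAll_spec : ∀ (P : List ℕ) (n : ℕ), GoodP P → stripAll P n ∣ n ∧
    ∀ r, r.Prime → r ∉ P → r ∣ n → r ∣ stripAll P n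
  | [], n, _ => ⟨dvd_rfl, fun _ _ _ h => h⟩
  | q :: P, n, hP => by
    rw [stripAll_cons]
    have hP' : GoodP P := fun r hr => hP r (List.mem_cons_of_mem _ hr)
    obtain ⟨h1, h2⟩ := stripAll_spec P (bif Nat.beq (Nat.mod n q) 0 then strip q 64 n else n) hP'
    cases hb : Nat.beq (Nat.mod n q) 0 <;> simp only [hb, cond_true, cond_false] at h1 h2 ⊢
    · exact ⟨h1, fun r hr hrP hrn => h2 r hr (fun h => hrP (List.mem_cons_of_mem _ h)) hrn⟩
    · refine ⟨h1.trans (strip_dvd q 64 n), fun r hr hrP hrn => h2 r hr (fun h => hrP (List.mem_cons_of_mem _ h)) ?_⟩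
      refine dvd_strip q hr (fun h => hrP ?_) 64 n hrn
      rw [(Nat.prime_dvd_prime_iff_eq hr (hP q List.mem_cons_self)).1 h]
      exact List.mem_cons_self

theorem mem_factor {P : List ℕ} (hP : GoodP P) {v : ℕ} (hv : 0 < v) {r : ℕ} :
    r ∈ factor P v ↔ r.Prime ∧ r ∣ v := by
  obtain ⟨h1, h2⟩ := stripAll_spec P v hP
  set w := stripAll P v with hw
  have hwpos : 0 < w := Nat.pos_of_dvd_of_pos h1 hv
  set tail := bif Nat.beq w 1 then [] else pfacT (v + 1) 2 w with htail
  have hT : ∀ r, r ∈ tail ↔ r.Prime ∧ r ∣ w := by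
    intro r
    by_cases hw1 : w = 1
    · rw [htail, beq_iff.2 hw1, cond_true, hw1]
      simp only [List.not_mem_nil, false_iff, not_and, Nat.dvd_one]
      exact fun hr e => hr.ne_one e
    · rw [htail, beq_false hw1, cond_false]
      exact pfacT_spec (v + 1) 2 w le_rfl hwpos (by have := Nat.le_of_dvd hv h1; omega)
        (fun r hr _ => hr.two_le) r
  have key : ∀ Q : List ℕ, r ∈ (List.rec (motive := fun _ => List ℕ) tail
      (fun q _ ih => bif Nat.beq (Nat.mod v q) 0 then q :: ih else ih) Q) ↔ (r ∈ Q ∧ r ∣ v) ∨ r ∈ tail := by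
    intro Q
    induction Q with
    | nil => simp
    | cons q Q ih =>
      show r ∈ (bif Nat.beq (Nat.mod v q) 0 then q :: _ else _) ↔ _
      by_cases hq : q ∣ v
      · rw [mod_beq.2 hq, cond_true, List.mem_cons, ih, List.mem_cons]
        constructor
        · rintro (rfl | h)
          · exact Or.inl ⟨Or.inl rfl, hq⟩
          · exact h.imp (fun h => ⟨Or.inr h.1, h.2⟩) id
        · rintro (⟨rfl | h, h'⟩ | h)
          exacts [Or.inl rfl, Or.inr (Or.inl ⟨h, h'⟩), Or.inr (Or.inr h)]
      · rw [show Nat.beq (Nat.mod v q) 0 = false from Bool.eq_false_iff.2 fun e => hq (mod_beq.1 e), cond_false,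
          ih, List.mem_cons]
        constructor
        · exact Or.imp (fun h => ⟨Or.inr h.1, h.2⟩) id
        · rintro (⟨rfl | h, h'⟩ | h)
          exacts [absurd h' hq, Or.inl ⟨h, h'⟩, Or.inr h]
  show r ∈ (List.rec (motive := fun _ => List ℕ) tail
    (fun q _ ih => bif Nat.beq (Nat.mod v q) 0 then q :: ih else ih) P) ↔ _
  rw [key, hT]
  constructor
  · rintro (⟨h, h'⟩ | ⟨h, h'⟩)
    exacts [⟨hP r h, h'⟩, ⟨h, h'.trans h1⟩]
  · rintro ⟨hr, hrv⟩
    by_cases hrP : r ∈ P
    · exact Or.inl ⟨hrP, hrv⟩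
    · exact Or.inr ⟨hr, h2 r hr hrP hrv⟩

theorem forceCP_eq (P : List ℕ) (v : ℕ) (k : CP → Bool) : forceCP P v k = k (v, factor P v) := by
  rw [forceCP, forceL_eq]

theorem prime_dvd_primorial : ∀ q < 467, Nat.Prime q → q ∣ primorial := by decide +kernel

theorem prime_of_gcd_primorial {v : ℕ} (h2 : 2 ≤ v) (hv : v < 218089) (_hg : Nat.gcd v primorial = 1)
    (hno : ∀ q, q.Prime → q < 467 → q ∣ v → False) : v.Prime := by
  refine Nat.prime_def_le_sqrt.2 ⟨h2, fun m hm hs hd => ?_⟩
  obtain ⟨q, hq, hqm⟩ := Nat.exists_prime_and_dvd (show m ≠ 1 by omega)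
  have := Nat.le_of_dvd (by omega) hqm
  have := Nat.le_sqrt.1 hs
  exact hno q hq (by nlinarith) (hqm.trans hd)

theorem no_small_prime {v : ℕ} (hg : Nat.gcd v primorial = 1) (q : ℕ) (hq : q.Prime) (hlt : q < 467)
    (hd : q ∣ v) : False :=
  hq.ne_one (Nat.dvd_one.1 (hg ▸ Nat.dvd_gcd hd (prime_dvd_primorial q hlt hq)))

theorem primeF_sound {p : ℕ} (h : primeF p = true) : p.Prime := by
  rw [primeF] at h
  cases hb : (Nat.blt p 467 || Nat.ble 218089 p)
  · rw [hb, cond_false] at h
    rw [Bool.or_eq_false_iff] at hb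
    have h1 : 467 ≤ p := not_lt.1 fun hlt => by simp [blt_true hlt] at hb
    have h2 : p < 218089 := not_le.1 fun hle => by simp [ble_true hle] at hb
    have hg : Nat.gcd p primorial = 1 := by simpa using h
    exact prime_of_gcd_primorial (by omega) h2 hg (no_small_prime hg)
  · rw [hb, cond_true] at h
    exact primeB_sound h

theorem forPow_sound {q l : ℕ} (f : ℕ → Bool) : ∀ n cur, forPow q l f n cur = true → cur ∣ l →
    ∀ j, cur * q ^ j ∣ l → f (cur * q ^ j) = true
  | 0, cur, h => by simp [forPow] at h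
  | n + 1, cur, h => by
    intro hcur j hj
    have h' : force cur (fun cur => f cur && bif Nat.beq (Nat.mod l (Nat.mul cur q)) 0
        then forPow q l f n (Nat.mul cur q) else true) = true := h
    rw [force_eq, Bool.and_eq_true] at h'
    rcases j with _ | j
    · simpa using h'.1
    · have e : cur * q ^ (j + 1) = cur * q * q ^ j := by rw [pow_succ]; ring
      rw [e] at hj ⊢
      have hd : cur * q ∣ l := (dvd_mul_right _ _).trans hj
      have h2 := h'.2
      rw [show Nat.beq (Nat.mod l (Nat.mul cur q)) 0 = true from mod_beq.2 hd, cond_true] at h2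
      exact forPow_sound f n (cur * q) h2 hd j hj

theorem forDiv_aux (l : ℕ) (hl : 0 < l) (f : ℕ → Bool) : ∀ (P : List ℕ), GoodP P → ∀ (cur d : ℕ),
    (List.rec (motive := fun _ => ℕ → Bool) f
      (fun q _ ih cur => forPow q l (fun x => ih (Nat.mul cur x)) 64 1) P) cur = true →
    d ∣ l → (∀ r, r.Prime → r ∣ d → r ∈ P) → f (cur * d) = true
  | [], _, cur, d, h, hd, hr => by
    have : d = 1 := by
      by_contra hne
      obtain ⟨r, hr1, hr2⟩ := Nat.exists_prime_and_dvd hne
      simpa using hr r hr1 hr2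
    simpa [this] using h
  | q :: P, hP, cur, d, h, hd, hr => by
    have hq : q.Prime := hP q List.mem_cons_self
    have hd0 : d ≠ 0 := fun e => by
      rw [e] at hd; exact hl.ne' (Nat.eq_zero_of_zero_dvd hd)
    have e : q ^ d.factorization q * (d / q ^ d.factorization q) = d := Nat.ordProj_mul_ordCompl_eq_self d q
    have h1 := forPow_sound _ 64 1 h (one_dvd l) (d.factorization q)
      (by rw [one_mul]; exact (Nat.ordProj_dvd d q).trans hd)
    have h2 := forDiv_aux l hl f P (fun r hr => hP r (List.mem_cons_of_mem _ hr))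
      (Nat.mul cur (1 * q ^ d.factorization q)) (d / q ^ d.factorization q) h1
      ((Nat.ordCompl_dvd d q).trans hd) (fun r hr1 hr2 => ?_)
    · rw [one_mul] at h2
      change f (cur * q ^ d.factorization q * _) = true at h2
      rwa [mul_assoc, e] at h2
    · rcases List.mem_cons.1 (hr r hr1 (hr2.trans (Nat.ordCompl_dvd d q))) with rfl | h3
      · exact absurd hr2 (Nat.not_dvd_ordCompl hq hd0)
      · exact h3

theorem forDiv_sound {P : List ℕ} (hP : GoodP P) {l : ℕ} (hl : 0 < l) {f : ℕ → Bool}
    (h : forDiv P l f = true) {d : ℕ} (hd : d ∣ l) (hr : ∀ r, r.Prime → r ∣ d → r ∈ P) : f d = true := by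
  simpa using forDiv_aux l hl f P hP 1 d h hd hr

theorem mem_powList (q l : ℕ) : ∀ f cur j, j ≤ f → cur * q ^ j ∣ l → cur * q ^ j ∈ powList q l f cur
  | 0, cur, j, hj, _ => by
    rw [show j = 0 by omega]; simp [powList]
  | f + 1, cur, j, hj, hd => by
    rw [powList]
    rcases j with _ | j
    · cases l % (cur * q) == 0 <;> simp
    · have e : cur * q ^ (j + 1) = cur * q * q ^ j := by rw [pow_succ]; ring
      rw [e] at hd ⊢
      rw [show (l % (cur * q) == 0) = true by
        simpa using Nat.mod_eq_zero_of_dvd ((dvd_mul_right _ _).trans hd), cond_true]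
      exact List.mem_cons_of_mem _ (mem_powList q l f (cur * q) j (by omega) hd)

theorem mem_divList {l : ℕ} (hl : 0 < l) : ∀ (P : List ℕ), GoodP P → ∀ d, d ∣ l →
    (∀ r, r.Prime → r ∣ d → r ∈ P) → d ∈ divList P l
  | [], _, d, _, hr => by
    have : d = 1 := by
      by_contra hne
      obtain ⟨r, hr1, hr2⟩ := Nat.exists_prime_and_dvd hne
      simpa using hr r hr1 hr2
    simp [divList, this]
  | q :: P, hP, d, hd, hr => by
    have hd0 : d ≠ 0 := fun e => by
      rw [e] at hd; exact hl.ne' (Nat.eq_zero_of_zero_dvd hd)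
    have hq : q.Prime := hP q List.mem_cons_self
    have hp1 := (Nat.ordProj_dvd d q).trans hd
    have hexp : d.factorization q ≤ l :=
      (Nat.lt_pow_self hq.one_lt).le.trans (Nat.le_of_dvd hl hp1)
    have h1 := mem_powList q l l 1 _ hexp (by rw [one_mul]; exact hp1)
    have h2 := mem_divList hl P (fun r hr => hP r (List.mem_cons_of_mem _ hr)) (d / q ^ d.factorization q)
      ((Nat.ordCompl_dvd d q).trans hd) (fun r hr1 hr2 => ?_)
    · rw [divList, List.mem_flatMap]
      refine ⟨_, h1, List.mem_map.2 ⟨_, h2, ?_⟩⟩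
      rw [one_mul]
      exact Nat.ordProj_mul_ordCompl_eq_self d q
    · rcases List.mem_cons.1 (hr r hr1 (hr2.trans (Nat.ordCompl_dvd d q))) with rfl | h3
      · exact absurd hr2 (Nat.not_dvd_ordCompl hq hd0)
      · exact h3

theorem numOrders_le (e : ℕ) : ∀ f d, 2 ≤ d →
    numOrders f d e ≤ ((Nat.divisors e).filter fun x => d ≤ x ∧ d ≤ e / x).card
  | 0, d, _ => Nat.zero_le _
  | f + 1, d, hd => by
    rw [numOrders]
    by_cases hsq : e < d * d
    · rw [blt_true hsq, cond_true]; exact Nat.zero_le _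
    rw [blt_false (not_lt.1 hsq), cond_false]
    have ih := numOrders_le e f (d + 1) (by omega)
    set S := (Nat.divisors e).filter fun x => d ≤ x ∧ d ≤ e / x
    set T := (Nat.divisors e).filter fun x => d + 1 ≤ x ∧ d + 1 ≤ e / x
    have hTS : T ⊆ S := fun x hx => by
      simp only [S, T, Finset.mem_filter] at hx ⊢
      exact ⟨hx.1, by omega, by omega⟩
    by_cases hde : d ∣ e
    · rw [show (e % d == 0) = true by simpa using Nat.mod_eq_zero_of_dvd hde, cond_true]
      have he0 : e ≠ 0 := fun h => by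
        rw [h] at hsq; exact hsq (Nat.mul_pos (by omega) (by omega))
      have hq : d ≤ e / d := (Nat.le_div_iff_mul_le (by omega)).2 (not_lt.1 hsq)
      have hm1 : d ∈ S ∧ d ∉ T := by
        simp only [S, T, Finset.mem_filter, Nat.mem_divisors]
        exact ⟨⟨⟨hde, he0⟩, le_rfl, hq⟩, fun h => by omega⟩
      have hm2 : e / d ∈ S ∧ e / d ∉ T := by
        simp only [S, T, Finset.mem_filter, Nat.mem_divisors, Nat.div_div_self hde he0]
        exact ⟨⟨⟨Nat.div_dvd_of_dvd hde, he0⟩, hq, le_rfl⟩, fun h => by omega⟩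
      by_cases heq : e / d = d
      · rw [show (e / d == d) = true by simpa using heq, cond_true]
        have := Finset.card_lt_card ((Finset.ssubset_iff_of_subset hTS).2 ⟨d, hm1⟩)
        omega
      · rw [show (e / d == d) = false by simpa using heq, cond_false]
        have h3 : insert d (insert (e / d) T) ⊆ S := by
          simp only [Finset.insert_subset_iff]; exact ⟨hm1.1, hm2.1, hTS⟩
        have h4 := Finset.card_le_card h3
        rw [Finset.card_insert_of_notMem (by simp [Ne.symm heq, hm1.2]),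
          Finset.card_insert_of_notMem hm2.2] at h4
        omega
    · rw [show (e % d == 0) = false by simpa using fun h => hde (Nat.dvd_of_mod_eq_zero h), cond_false]
      exact ih.trans (Finset.card_le_card hTS)

end Cfsg.Agent.Fus.Ten
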