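import Cfsg.Agent.Lib.Fus.TenClasses.SmallA

/-!
The search for ten classes at the order 360.
-/

set_option autoImplicit false

namespace Cfsg.Agent.Fus.Ten

theorem search_360 : smallAt 360 [2, 3, 5] = true := by decide +kernel

end Cfsg.Agent.Fus.Ten
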