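import Cfsg.Agent.Lib.Fus.TenClasses.Search
import Cfsg.Agent.Lib.Fus.TenClasses.Part02

/-!
The generic search for ten classes: part 4. The chain of imports keeps few of these searches running at once.
-/

set_option autoImplicit false

namespace Cfsg.Agent.Fus.Ten

theorem search_part_4 : search excG (partSel 4) 6000 8 [] [] 5 1 1 = true := by decide +kernel

end Cfsg.Agent.Fus.Ten
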