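import Cfsg.Agent.Lib.Fus.TenClasses.Part00
import Cfsg.Agent.Lib.Fus.TenClasses.Part01
import Cfsg.Agent.Lib.Fus.TenClasses.Part02
import Cfsg.Agent.Lib.Fus.TenClasses.Part03
import Cfsg.Agent.Lib.Fus.TenClasses.Part04
import Cfsg.Agent.Lib.Fus.TenClasses.Part05
import Cfsg.Agent.Lib.Fus.TenClasses.Part06
import Cfsg.Agent.Lib.Fus.TenClasses.Part07
import Cfsg.Agent.Lib.Fus.TenClasses.Part08
import Cfsg.Agent.Lib.Fus.TenClasses.Part09
import Cfsg.Agent.Lib.Fus.TenClasses.Part10
import Cfsg.Agent.Lib.Fus.TenClasses.Part11
import Cfsg.Agent.Lib.Fus.TenClasses.Part12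
import Cfsg.Agent.Lib.Fus.TenClasses.Part13

/-!
All parts of the generic search for ten classes.
-/

set_option autoImplicit false

namespace Cfsg.Agent.Fus.Ten

theorem search_parts (i : ℕ) (hi : i < 14) : search excG (partSel i) 6000 8 [] [] 5 1 1 = true := by
  interval_cases i
  · exact search_part_0
  · exact search_part_1
  · exact search_part_2
  · exact search_part_3
  · exact search_part_4
  · exact search_part_5
  · exact search_part_6
  · exact search_part_7
  · exact search_part_8
  · exact search_part_9
  · exact search_part_10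
  · exact search_part_11
  · exact search_part_12
  · exact search_part_13

end Cfsg.Agent.Fus.Ten
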