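import Cfsg.Agent.Lib.Fus.TenClasses.Sound
import Cfsg.Agent.Lib.Fus.TenClasses.Parts
import Cfsg.Agent.Lib.Fus.TenClasses.SmallB

/-!
The searches applied to a profile.
-/

set_option autoImplicit false

namespace Cfsg.Agent.Fus.Ten

open Cfsg.Agent.Fus.Nine (Cl)

variable {N : ℕ} {L : List Cl}

/-- A profile in increasing order. -/
theorem Prof.exists_sorted (h : Prof N L) : ∃ M, L.Perm M ∧ Prof N M ∧ Sorted M := by
  let le : Cl → Cl → Bool := fun a b => decide (a.1 < b.1 ∨ (a.1 = b.1 ∧ a.2 ≤ b.2))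
  refine ⟨L.mergeSort le, (List.mergeSort_perm L le).symm, h.perm (List.mergeSort_perm L le).symm, ?_⟩
  refine (List.pairwise_mergeSort (le := le) ?_ ?_ L).imp fun {a b} hab => by simpa [le] using hab
  · intro a b c h1 h2
    simp only [le, decide_eq_true_eq] at h1 h2 ⊢
    omega
  · intro a b
    simp only [le, Bool.or_eq_true, decide_eq_true_eq]
    omega

/-- The index of the part of the search that meets a profile. -/
def partIdx (L : List Cl) : ℕ := ((((L.map Prod.fst).take 5).reverse).foldl (fun z x => z * 3 + x) 0) % 14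

theorem partSel_true {cs : List CP} {rest : List ℕ} (e : L.map Prod.fst = (cs.map Prod.fst).reverse ++ rest)
    (hlen : L.length = 9) (hrest : rest.length = 4) : partSel (partIdx L) cs = true := by
  have h5 : (cs.map Prod.fst).reverse.length = 5 := by
    have := congrArg List.length e
    rw [List.length_map, List.length_append, hlen, hrest] at this
    omega
  have h : ((L.map Prod.fst).take 5).reverse = cs.map Prod.fst := by
    rw [e, ← h5, List.take_left, List.reverse_reverse]
  rw [partSel, partIdx, h, foldR_eq, List.foldl_map]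
  exact beq_iff.2 rfl

theorem large_profile (h : Prof N L) (hN : 6000 ≤ N) (h5 : ∀ x ∈ L, 5 ≤ x.1) : excG N L = true := by
  obtain ⟨M, hp, hM, hs⟩ := h.exists_sorted
  suffices key : excG N M = true by
    simp only [excG, Bool.and_eq_true, Bool.or_eq_true, List.all_eq_true, List.any_eq_true] at key ⊢
    rcases key with k | ⟨⟨k1, k2⟩, k3⟩
    · exact Or.inl k
    · refine Or.inr ⟨⟨k1, fun y hy => k2 y (hp.mem_iff.1 hy)⟩, k3.imp id ?_⟩
      rintro ⟨x, hx, hx8⟩
      exact ⟨x, hp.mem_iff.2 hx, hx8⟩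
  have h5' : ∀ c ∈ M.map Prod.fst, 5 ≤ c := fun c hc => by
    obtain ⟨x, hx, rfl⟩ := List.mem_map.1 hc
    exact h5 x (hp.mem_iff.2 hx)
  refine search_sound hM hs hN (fun cs rest e hr => partSel_true e hM.len hr) 8 [] [] 5 1 1 (M.map Prod.fst)
    (search_parts _ (Nat.mod_lt _ (by norm_num))) ⟨by simp, by simp, fun q hq => by simp at hq⟩
    (by rw [List.length_map, hM.len]) h5' (one_dvd N) ?_ (by simp) ?_
  · rw [one_mul, Nat.div_one, List.map_map]
    exact hM.sum.symm
  · intro r hr hr1
    exact absurd (Nat.dvd_one.1 hr1) hr.ne_one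

theorem small_profile (h : Prof N L) (hN : N ∈ [60, 168, 360, 504, 660, 1092, 2448, 3420, 4080, 5616])
    (hmin : ∀ x ∈ L, minCn N ≤ x.1) (hA : ∀ x ∈ L, allowed N x.1 x.2 = true) : False := by
  obtain ⟨M, hp, hM, hs⟩ := h.exists_sorted
  obtain ⟨P, hP, hr⟩ : ∃ P, GoodP P ∧ smallAt N P = true := by
    simp only [List.mem_cons, List.not_mem_nil, or_false] at hN
    rcases hN with rfl | rfl | rfl | rfl | rfl | rfl | rfl | rfl | rfl | rfl
    · exact ⟨_, by simp [GoodP]; norm_num, search_60⟩
    · exact ⟨_, by simp [GoodP]; norm_num, search_168⟩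
    · exact ⟨_, by simp [GoodP]; norm_num, search_360⟩
    · exact ⟨_, by simp [GoodP]; norm_num, search_504⟩
    · exact ⟨_, by simp [GoodP]; norm_num, search_660⟩
    · exact ⟨_, by simp [GoodP]; norm_num, search_1092⟩
    · exact ⟨_, by simp [GoodP]; norm_num, search_2448⟩
    · exact ⟨_, by simp [GoodP]; norm_num, search_3420⟩
    · exact ⟨_, by simp [GoodP]; norm_num, search_4080⟩
    · exact ⟨_, by simp [GoodP]; norm_num, search_5616⟩
  have := fixedN_sound hM hs (fun x hx => hA x (hp.mem_iff.2 hx)) 9 [] _ _ (M.map Prod.fst) hr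
    ⟨by simp, by simp, hP⟩ (by rw [List.length_map, hM.len]) ?_ ?_ ?_ ?_
  · simp [excNone] at this
  · exact List.Pairwise.filter _ (List.pairwise_lt_range' (s := minCn N) (n := N - minCn N))
  · intro c hc
    have h1 := (List.mem_range'_1.1 (List.mem_filter.1 hc).1).1
    have : 2 ≤ minCn N := by
      unfold minCn; cases Nat.blt N 500 <;> simp
    omega
  · intro c hc
    obtain ⟨x, hx, rfl⟩ := List.mem_map.1 hc
    obtain ⟨hd, -, -, hlt⟩ := hM.basic x hx
    have h1 := hmin x (hp.mem_iff.2 hx)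
    exact List.mem_filter.2 ⟨List.mem_range'_1.2 ⟨h1, by omega⟩, by simpa using Nat.mod_eq_zero_of_dvd hd⟩
  · have h1 := hM.sum
    rw [List.map_map]
    simp only [Function.comp_def] at h1 ⊢
    exact (Nat.sub_eq_of_eq_add (h1.symm.trans (Nat.add_comm _ _)))

end Cfsg.Agent.Fus.Ten
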