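import Cfsg.Agent.Lib.Fus.TenClasses.Prof

/-!
What the last but one and the forced centralizer orders must satisfy.
-/

set_option autoImplicit false

namespace Cfsg.Agent.Fus.Ten

open Cfsg.Agent.Fus.Nine (Cl)

variable {N : ℕ} {L : List Cl} {cs : List CP} {P rest : List ℕ}

theorem foldl_dvd {α : Type} (step : ℕ → α → ℕ) (v : ℕ) : ∀ (l : List α) (z : ℕ),
    (∀ x ∈ l, ∀ D, D ∣ v → step D x ∣ v) → z ∣ v → l.foldl step z ∣ v
  | [], _, _, hz => hz
  | x :: l, z, hstep, hz => by
    rw [List.foldl_cons]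
    exact foldl_dvd step v l _ (fun y hy => hstep y (List.mem_cons_of_mem _ hy))
      (hstep x List.mem_cons_self z hz)

theorem foldl_gcd_dvd {α : Type} (c : α → Bool) (f : α → ℕ) : ∀ (l : List α) (z : ℕ),
    l.foldl (fun g r => bif c r then Nat.gcd g (f r) else g) z ∣ z ∧
      ∀ r ∈ l, c r = true → l.foldl (fun g r => bif c r then Nat.gcd g (f r) else g) z ∣ f r
  | [], z => ⟨dvd_rfl, by simp⟩
  | x :: l, z => by
    rw [List.foldl_cons]
    obtain ⟨h1, h2⟩ := foldl_gcd_dvd c f l (bif c x then Nat.gcd z (f x) else z)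
    refine ⟨h1.trans ?_, fun r hr hc => ?_⟩
    · cases c x
      · exact dvd_rfl
      · exact Nat.gcd_dvd_left _ _
    · rcases List.mem_cons.1 hr with rfl | hr
      · exact h1.trans (by rw [hc, cond_true]; exact Nat.gcd_dvd_right _ _)
      · exact h2 r hr hc

theorem St.forcedPair_dvd (s : St L cs P rest) (h : Prof N L) {v : ℕ} (hv : v ∈ rest) :
    forcedPair cs rest.length ∣ v := by
  rw [forcedPair, foldR_eq]
  refine foldl_dvd _ _ _ _ (fun x hx D hD => ?_) (one_dvd v)
  rcases hps : x.2 with _ | ⟨a, _ | ⟨b, t⟩⟩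
  · exact hD
  · exact hD
  dsimp only
  rw [← hps, foldR_eq]
  set c : ℕ → Bool := fun r =>
    allR (fun q => Nat.beq q r || Nat.ble 3 (Nat.add (cnt cs (Nat.mul r q)) rest.length)) x.2 with hc
  set f : ℕ → ℕ := fun r => foldR (fun f q =>
    bif Nat.beq q r || !Nat.beq (Nat.add (cnt cs (Nat.mul r q)) rest.length) 3 then f
    else Nat.lcm f (Nat.mul r q)) x.2 1 with hf
  suffices key : x.2.foldl (fun g r => bif c r then Nat.gcd g (f r) else g) 0 ∣ v by
    by_cases hg : x.2.foldl (fun g r => bif c r then Nat.gcd g (f r) else g) 0 = 0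
    · rw [beq_iff.2 hg, cond_true]; exact hD
    · rw [beq_false hg, cond_false]; exact Nat.lcm_dvd hD key
  obtain ⟨y, hy, hy1⟩ := s.exists_mem hx
  obtain ⟨r, hr, hrd, hq⟩ := h.pair hy
  rw [hy1] at hrd hq
  have hrmem : r ∈ x.2 := (s.good x hx r).2 ⟨hr, hrd⟩
  have h3 : ∀ q ∈ x.2, q ≠ r → 3 ≤ cnt cs (r * q) + rest.countP (fun v => v % (r * q) == 0) := fun q hqm hne => by
    obtain ⟨hq1, hq2⟩ := (s.good x hx q).1 hqm
    rw [← s.count_cnt]
    exact hq q hq1 hq2 hne
  have hcr : c r = true := by
    rw [hc]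
    dsimp only
    rw [allR_eq, List.all_eq_true]
    intro q hqm
    rw [Bool.or_eq_true]
    by_cases e : q = r
    · exact Or.inl (beq_iff.2 e)
    · refine Or.inr (ble_true ?_)
      have := h3 q hqm e
      have := List.countP_le_length (p := fun v => v % (r * q) == 0) (l := rest)
      show 3 ≤ cnt cs (r * q) + rest.length
      omega
  refine ((foldl_gcd_dvd c f x.2 0).2 r hrmem hcr).trans ?_
  rw [hf]
  dsimp only
  rw [foldR_eq]
  refine foldl_dvd _ _ _ _ (fun q hqm D' hD' => ?_) (one_dvd v)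
  by_cases e : q = r
  · rw [beq_iff.2 e, Bool.true_or, cond_true]; exact hD'
  rw [beq_false e, Bool.false_or]
  by_cases e3 : cnt cs (r * q) + rest.length = 3
  · rw [show Nat.beq (Nat.add (cnt cs (Nat.mul r q)) rest.length) 3 = true from beq_iff.2 e3, Bool.not_true,
      cond_false]
    refine Nat.lcm_dvd hD' ?_
    have h4 : rest.countP (fun v => v % (r * q) == 0) = rest.length := by
      have := h3 q hqm e
      have := List.countP_le_length (p := fun v => v % (r * q) == 0) (l := rest)
      omega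
    exact Nat.dvd_of_mod_eq_zero (beq_iff_eq.1 (List.countP_eq_length.1 h4 v hv))
  · rw [show Nat.beq (Nat.add (cnt cs (Nat.mul r q)) rest.length) 3 = false from beq_false e3, Bool.not_false,
      cond_true]
    exact hD'

theorem St.forcedPrime_dvd (s : St L cs P rest) (h : Prof N L) (hs : Sorted L) {v : ℕ} (hv : v ∈ rest) :
    forcedPrime cs rest.length ∣ v := by
  rw [forcedPrime, foldR_eq]
  refine foldl_dvd _ _ _ _ (fun x hx D hD => ?_) (one_dvd v)
  by_cases hb : isP x = true ∧ (cs.headD x).1 ≠ x.1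
  swap
  · rw [show (!isP x || Nat.beq (cs.headD x).1 x.1) = true by
      rw [Bool.or_eq_true, Bool.not_eq_true']
      by_cases h1 : isP x = true
      · exact Or.inr (beq_iff.2 (not_not.1 fun e => hb ⟨h1, e⟩))
      · exact Or.inl (Bool.eq_false_iff.2 h1), cond_true]
    exact hD
  obtain ⟨hb, hne⟩ := hb
  rw [hb, beq_false hne]
  simp only [Bool.not_true, Bool.or_false, cond_false]
  obtain ⟨y, hy, hy1⟩ := s.exists_mem hx
  obtain ⟨-, -, -, e, he, hm, hd⟩ := h.prime_cn hy (hy1 ▸ s.isP_prime hx hb)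
  rw [hy1] at hm
  have hrest : rest.countP (fun v => v == x.1) = 0 := by
    rw [List.countP_eq_zero]
    intro w hw e2
    simp only [beq_iff_eq] at e2
    have := (s.le_head hs hx).1 x
    have := (s.le_head hs hx).2 x w hw
    omega
  have hm' : L.countP (fun z => z.1 == x.1) = cntR (fun z : CP => Nat.beq z.1 x.1) cs := by
    rw [s.count (fun v => v == x.1), hrest, cntR_eq, Nat.add_zero]
    exact List.countP_congr fun z _ => by simp only [beq_iff_eq]; exact beq_iff.symm
  rw [hm'] at hm
  have hpos : 0 < cntR (fun z : CP => Nat.beq z.1 x.1) cs := by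
    rw [cntR_eq]; exact List.countP_pos_iff.2 ⟨x, hx, beq_iff.2 rfl⟩
  have he' : Nat.div (Nat.sub x.1 1) (cntR (fun z : CP => Nat.beq z.1 x.1) cs) = e := by
    show (x.1 - 1) / _ = e
    rw [← hm, Nat.mul_div_cancel_left _ hpos]
  rw [he']
  by_cases e3 : cnt cs e + rest.length = numOrders e 2 e + 1
  · rw [show Nat.beq (Nat.add (cnt cs e) rest.length) (numOrders e 2 e + 1) = true from beq_iff.2 e3, cond_true]
    refine Nat.lcm_dvd hD ?_
    have h1 := h.count_orders he hd
    rw [s.count_cnt] at h1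
    have h4 : rest.countP (fun v => v % e == 0) = rest.length := by
      have := List.countP_le_length (p := fun v => v % e == 0) (l := rest)
      omega
    exact Nat.dvd_of_mod_eq_zero (beq_iff_eq.1 (List.countP_eq_length.1 h4 v hv))
  · rw [show Nat.beq (Nat.add (cnt cs e) rest.length) (numOrders e 2 e + 1) = false from beq_false e3, cond_false]
    exact hD

/-- A new prime occurs in the last but one centralizer order only as a prime power. -/
theorem St.new_prime {v C : ℕ} (s : St L cs P [v, C]) (h : Prof N L) {l : ℕ} (hl : ∀ x ∈ cs, x.1 ∣ l)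
    {q : ℕ} (hq : q.Prime) (hqv : q ∣ v) (hql : ¬ q ∣ l) {q' : ℕ} (hq' : q'.Prime) (hq'v : q' ∣ v) : q' = q := by
  by_contra hne
  obtain ⟨y, hy, hy1⟩ := s.exists_rest (List.mem_cons_self (a := v) (l := [C]))
  obtain ⟨r, hr, hrd, hpair⟩ := h.pair hy
  rw [hy1] at hrd hpair
  have key : ∀ r' q'' : ℕ, q ∣ r' * q'' → ¬ 3 ≤ L.countP (fun z => z.1 % (r' * q'') == 0) := by
    intro r' q'' hd h3
    rw [s.count_cnt] at h3
    have h0 : cnt cs (r' * q'') = 0 := by
      rw [cnt, cntR_eq, List.countP_eq_zero]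
      intro z hz e
      exact hql ((hd.trans (mod_beq.1 e)).trans (hl z hz))
    have := List.countP_le_length (p := fun w => w % (r' * q'') == 0) (l := [v, C])
    simp only [List.length_cons, List.length_nil] at this
    omega
  by_cases e : r = q
  · exact key r q' (e ▸ dvd_mul_right r q') (hpair q' hq' hq'v (e ▸ hne))
  · exact key r q (dvd_mul_left q r) (hpair q hq hqv (Ne.symm e))

theorem St.quick_sound {v C : ℕ} (s : St L cs P [v, C]) (h : Prof N L) (hs : Sorted L) {l : ℕ}
    (hl : ∀ x ∈ cs, x.1 ∣ l) : quick (cs.headD (0, [])).1 l (l ^ 32) v = true := by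
  obtain ⟨y, hy, hy1⟩ := s.exists_rest (List.mem_cons_self (a := v) (l := [C]))
  have hv2 : 2 ≤ v := hy1 ▸ h.two_le hy
  rw [quick]
  by_cases hg : Nat.gcd v l = 1
  · rw [beq_iff.2 hg, cond_true, Bool.or_eq_true, Bool.or_eq_true]
    by_cases htop : v ≤ 2 * (cs.headD (0, [])).1 + 1
    · exact Or.inl (Or.inl (ble_true htop))
    by_cases hbig : 218089 ≤ v
    · exact Or.inl (Or.inr (ble_true hbig))
    refine Or.inr ?_
    obtain ⟨q, hq, hqv⟩ := Nat.exists_prime_and_dvd (show v ≠ 1 by omega)
    have hnew : ∀ r, r.Prime → r ∣ v → r = q := fun r hr hrv =>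
      s.new_prime h hl hq hqv (fun e => hq.ne_one (Nat.dvd_one.1 (hg ▸ Nat.dvd_gcd hqv e))) hr hrv
    obtain ⟨k, hk⟩ : ∃ k, v = q ^ k :=
      ⟨_, Nat.eq_prime_pow_of_unique_prime_dvd (by omega) fun {r} hr hrv => hnew r hr hrv⟩
    rw [force_eq]
    by_cases hsmall : q < 467
    · have hqg : q ∣ Nat.gcd v primorial := Nat.dvd_gcd hqv (prime_dvd_primorial q hsmall hq)
      rw [Bool.and_eq_true, Bool.not_eq_true']
      refine ⟨beq_false fun e => hq.ne_one (Nat.dvd_one.1 (e ▸ hqg)), mod_beq.2 ?_⟩
      rw [hk] at hqg ⊢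
      have hk18 : k ≤ 18 := by
        by_contra hc
        have h1 : 2 ^ 19 ≤ q ^ k :=
          (Nat.pow_le_pow_right (by norm_num) (by omega)).trans (Nat.pow_le_pow_left hq.two_le k)
        omega
      exact (pow_dvd_pow_of_dvd hqg k).trans (pow_dvd_pow _ hk18)
    · exfalso
      have hk1 : k = 1 := by
        rcases k with _ | _ | k
        · rw [pow_zero] at hk; omega
        · rfl
        · have h1 : q ^ 2 ≤ q ^ (k + 1 + 1) := Nat.pow_le_pow_right hq.pos (by omega)
          have h2 : 467 * 467 ≤ q * q := Nat.mul_le_mul (by omega) (by omega)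
          rw [sq] at h1
          omega
      rw [hk1, pow_one] at hk
      have hp : y.1.Prime := by rw [hy1, hk]; exact hq
      obtain ⟨-, -, -, e, he, hm, hd⟩ := h.prime_cn hy hp
      rw [hy1] at hm
      have hcs : ∀ z ∈ cs, z.1 ≤ (cs.headD (0, [])).1 := fun z hz => (s.le_head hs hz).1 _
      have hmc : cs.countP (fun z => z.1 == v) = 0 := by
        rw [List.countP_eq_zero]
        intro z hz e1
        have := hcs z hz
        simp only [beq_iff_eq] at e1
        omega
      have hmeq := s.count (fun w => w == v)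
      rw [hmc, Nat.zero_add] at hmeq
      have hev : ¬ e ∣ v := fun hh => by
        rcases (Nat.dvd_prime (hk ▸ hq)).1 hh with h1 | h1
        · omega
        · rw [h1] at hm
          have := Nat.le_mul_of_pos_left v (List.countP_pos_iff.2 ⟨y, hy, by simpa using hy1⟩ :
            0 < L.countP (fun z => z.1 == v))
          omega
      have hm2 : L.countP (fun z => z.1 == v) ≤ 2 := by
        rw [hmeq]; exact List.countP_le_length
      have hetop : (cs.headD (0, [])).1 < e := by
        have := Nat.mul_le_mul_right e hm2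
        omega
      have hcse : cnt cs e = 0 := by
        rw [cnt, cntR_eq, List.countP_eq_zero]
        intro z hz e1
        obtain ⟨u, hu, hu1⟩ := s.exists_mem hz
        have := Nat.le_of_dvd (hu1 ▸ h.c_pos hu) (mod_beq.1 e1)
        have := hcs z hz
        omega
      have hcount := s.count_cnt e
      rw [hcse, Nat.zero_add] at hcount
      have hC1 : L.countP (fun z => z.1 % e == 0) + L.countP (fun z => z.1 == v) ≤ 2 := by
        rw [hmeq, hcount]
        have hv' : (v % e == 0) = false := by simpa using fun e1 => hev (Nat.dvd_of_mod_eq_zero e1)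
        by_cases eC : C = v
        · subst eC
          simp [hv']
        · have hC' : (C == v) = false := by simpa using eC
          simp only [List.countP_cons, List.countP_nil, hv', hC', beq_self_eq_true, ↓reduceIte, Bool.false_eq_true]
          split <;> omega
      have h1 : 1 ≤ L.countP (fun z => z.1 % e == 0) := by
        obtain ⟨z, hz, -, hze⟩ := hd e dvd_rfl he
        exact List.countP_pos_iff.2 ⟨z, hz, by simpa using Nat.mod_eq_zero_of_dvd hze⟩
      have hm1 : L.countP (fun z => z.1 == v) = 1 := by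
        have : 0 < L.countP (fun z => z.1 == v) := List.countP_pos_iff.2 ⟨y, hy, by simpa using hy1⟩
        omega
      rw [hm1, one_mul] at hm
      have hodd : v % 2 = 1 := (Nat.Prime.eq_two_or_odd (hk ▸ hq)).resolve_left (by omega)
      have h2 : 2 ≤ L.countP (fun z => z.1 % e == 0) := by
        refine le_trans (le_of_eq (Finset.card_pair (show 2 ≠ e by omega)).symm) (le_countP _ _ fun d hdd => ?_)
        obtain ⟨h4, h5⟩ : d ∣ e ∧ 1 < d := by
          rcases Finset.mem_insert.1 hdd with rfl | hh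
          · exact ⟨Nat.dvd_of_mod_eq_zero (by omega), by norm_num⟩
          · rw [Finset.mem_singleton.1 hh]; exact ⟨dvd_rfl, he⟩
        obtain ⟨z, hz, hz2, hze⟩ := hd d h4 h5
        exact ⟨z, hz, hz2, by simpa using Nat.mod_eq_zero_of_dvd hze⟩
      omega
  · rw [beq_false hg, cond_false, Bool.or_eq_true]
    by_cases hbig : 4294967296 ≤ v
    · exact Or.inl (ble_true hbig)
    refine Or.inr (mod_beq.2 ?_)
    obtain ⟨q₀, hq₀, hq₀d⟩ := Nat.exists_prime_and_dvd hg
    have hold : ∀ q, q.Prime → q ∣ v → q ∣ l := fun q hq hqv => by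
      by_contra hql
      have := s.new_prime h hl hq hqv hql hq₀ (hq₀d.trans (Nat.gcd_dvd_left _ _))
      exact hql (this ▸ hq₀d.trans (Nat.gcd_dvd_right _ _))
    refine (Nat.dvd_iff_prime_pow_dvd_dvd _ _).2 fun p k hp hpk => ?_
    rcases k with _ | k
    · simp
    have hk32 : k + 1 ≤ 32 := by
      by_contra hc
      have h1 : 2 ^ 33 ≤ p ^ (k + 1) :=
        (Nat.pow_le_pow_right (by norm_num) (by omega)).trans (Nat.pow_le_pow_left hp.two_le _)
      have := Nat.le_of_dvd (by omega) hpk
      omega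
    exact (pow_dvd_pow_of_dvd (hold p hp ((dvd_pow_self p (by omega)).trans hpk)) _).trans (pow_dvd_pow _ hk32)

end Cfsg.Agent.Fus.Ten
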