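import Cfsg.Agent.Lib.Fus.TenClasses.Profile
import Cfsg.Agent.Lib.Fus.TenClasses.Combine
import Cfsg.Agent.Lib.Fus.TenClasses.Alt7
import Cfsg.Agent.Lib.Fus.NineClasses.Main
import Cfsg.Agent.Lib.Fus.MathieuTwoGroups
import Cfsg.Agent.Lib.Invol.Order7920Unique
import Cfsg.Agent.Lib.Lie.Sz.SylowLie

/-!
The simple groups with ten classes.
-/

set_option autoImplicit false
set_option linter.style.haveILetI false

namespace Cfsg.Agent.Fus.Ten

open Cfsg Cfsg.Agent.Invol.M12Ord
open Cfsg.Agent.Fus.Nine (Cl Reps dat exists_reps dvd_cn_self five_le_cn card_psl_two card_alt alt_six_orders blt_true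
  blt_false)

universe u

variable {G : Type u} [Group G] [Finite G]

/-- In the Suzuki group over eight elements a nontrivial two-element has a centralizer of order at least sixteen. -/
theorem sixteen_le_cn_sz {F : Type} [Field F] [Fintype F] (hS : Suz.SzField F 1) (e : G ≃* ↥(Cfsg.Sz F 1))
    {g : G} {k : ℕ} (hg : orderOf g = 2 ^ k) : 16 ≤ cn g := by
  haveI : Fact (Nat.Prime 2) := ⟨Nat.prime_two⟩
  obtain ⟨P, hP⟩ := (IsPGroup.of_card (n := k) (by rw [Nat.card_zpowers, MulEquiv.orderOf_eq, hg]) :
    IsPGroup 2 (Subgroup.zpowers (e g))).exists_le_sylow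
  obtain ⟨hcard, -, -, hZ⟩ := Suz.sylow_props hS P
  norm_num at hcard hZ
  set x : (P : Subgroup ↥(Cfsg.Sz F 1)) := ⟨e g, hP (Subgroup.mem_zpowers _)⟩
  have hle : Nat.card (Subgroup.centralizer ({x} : Set (P : Subgroup ↥(Cfsg.Sz F 1)))) ≤ cn g := by
    refine Nat.le_of_dvd (cn_pos g) ?_
    rw [Nat.card_congr ((Subgroup.centralizer ({x} : Set (P : Subgroup ↥(Cfsg.Sz F 1)))).equivMapOfInjective
      (e.symm.toMonoidHom.comp (P : Subgroup ↥(Cfsg.Sz F 1)).subtype)
      (e.symm.injective.comp Subtype.val_injective)).toEquiv]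
    refine Subgroup.card_dvd_of_le ?_
    rintro _ ⟨y, hy, rfl⟩
    rw [Subgroup.mem_centralizer_singleton_iff]
    refine e.injective ?_
    simpa using congrArg Subtype.val (Subgroup.mem_centralizer_singleton_iff.1 hy)
  set C := Subgroup.centralizer ({x} : Set (P : Subgroup ↥(Cfsg.Sz F 1)))
  by_cases hxZ : x ∈ Subgroup.center (P : Subgroup ↥(Cfsg.Sz F 1))
  · have : C = ⊤ := eq_top_iff.2 fun y _ =>
      Subgroup.mem_centralizer_singleton_iff.2 (Subgroup.mem_center_iff.1 hxZ y)
    rw [this, Subgroup.card_top, hcard] at hle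
    omega
  · have hZC : Subgroup.center (P : Subgroup ↥(Cfsg.Sz F 1)) ≤ C := fun y hy =>
      Subgroup.mem_centralizer_singleton_iff.2 (Subgroup.mem_center_iff.1 hy x).symm
    have h1 := Subgroup.card_dvd_of_le hZC
    rw [hZ] at h1
    have h2 : Nat.card C ≠ 8 := fun h8 => hxZ
      ((Subgroup.eq_of_le_of_card_ge hZC (by rw [h8, hZ])) ▸ Subgroup.mem_centralizer_singleton_iff.2 rfl)
    obtain ⟨j, hj⟩ := h1
    rcases j with _ | _ | j
    · have : 0 < Nat.card C := Nat.card_pos
      omega
    · omega
    · omega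

omit [Finite G] in
theorem classes_le {H : Type*} [Group H] [Finite H] (e : G ≃* H) :
    Nat.card (ConjClasses G) ≤ Nat.card (ConjClasses H) :=
  Nat.card_le_card_of_surjective (ConjClasses.map e.symm.toMonoidHom)
    (ConjClasses.map_surjective e.symm.surjective)

variable [IsSimpleGroup G]

theorem no_small (hna : ¬ IsMulCommutative G) {L : List Cl} (hP : Prof (Nat.card G) L)
    (hmem : ∀ x ∈ L, ∃ g : G, dat g = x)
    (hN : Nat.card G ∈ [60, 168, 360, 504, 660, 1092, 2448, 3420, 4080, 5616]) : False := by
  refine small_profile hP hN (fun x hx => ?_) fun x hx => ?_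
  · unfold minCn
    by_cases h5 : Nat.card G < 500
    · rw [blt_true h5, cond_true]
      exact hP.two_le hx
    · rw [blt_false (not_lt.1 h5), cond_false]
      obtain ⟨g, rfl⟩ := hmem x hx
      refine five_le_cn hna ?_ g
      simp only [List.mem_cons, List.not_mem_nil, or_false, not_or] at hN ⊢
      omega
  · obtain ⟨g, rfl⟩ := hmem x hx
    have ho := (hP.basic _ hx).2.2.1
    change 1 < orderOf g at ho
    show allowed _ _ (orderOf g) = true
    unfold allowed
    by_cases h168 : Nat.card G = 168
    · rw [h168]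
      rcases Cfsg.Agent.Block.o168_orders h168 g with e | e | e | e | e <;> simp [e] at ho ⊢
    · rw [show (Nat.card G == 168) = false by simpa using h168, cond_false]
      by_cases h360 : Nat.card G = 360
      · rw [h360]
        obtain ⟨e⟩ := Cfsg.Agent.S0497.result h360
        have h2 : g ^ 3 = 1 ∨ g ^ 4 = 1 ∨ g ^ 5 = 1 := by
          rcases alt_six_orders (e g) with h | h | h <;> rw [← map_pow, ← map_one e] at h
          · exact Or.inl (e.injective h)
          · exact Or.inr (Or.inl (e.injective h))
          · exact Or.inr (Or.inr (e.injective h))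
        rcases h2 with h | h | h
        all_goals
          have h1 := orderOf_dvd_of_pow_eq_one h
          have h3 := Nat.le_of_dvd (by norm_num) h1
          interval_cases hg : orderOf g <;> simp_all
      · rw [show (Nat.card G == 360) = false by simpa using h360, cond_false]

theorem ten_classes (hna : ¬ IsMulCommutative G) (h10 : Nat.card (ConjClasses G) = 10) :
    Nonempty (G ≃* ↥Cfsg.Spor.M11) ∨
      ∃ (F : Type) (_ : Field F) (_ : Fintype F), Fintype.card F = 4 ∧
        Nonempty (G ≃* Matrix.ProjectiveSpecialLinearGroup (Fin 3) F) := by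
  classical
  obtain ⟨R, hR⟩ := exists_reps (G := G)
  have hP := prof_of_reps hna h10 hR
  have hmem : ∀ x ∈ R.map dat, ∃ g : G, dat g = x := fun x hx => by
    obtain ⟨r, -, e⟩ := List.mem_map.1 hx
    exact ⟨r, e⟩
  rcases lt_or_ge (Nat.card G) 6000 with hlt | hge
  · exfalso
    by_cases h2520 : Nat.card G = 2520
    · haveI : IsSimpleGroup (alternatingGroup (Fin 7)) :=
        alternatingGroup.isSimpleGroup (by rw [Nat.card_fin]; norm_num)
      have h7 : Nat.card (alternatingGroup (Fin 7)) = 2520 := by
        have := card_alt 7 (by norm_num)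
        rw [show Nat.factorial 7 = 5040 from rfl] at this
        omega
      obtain ⟨e⟩ := Block.DGS.iso_of_orders (S := alternatingGroup (Fin 7)) (G := G) (by rw [h7]; decide)
        (by rw [h7, h2520])
      have := (classes_le e).trans alt_seven_classes
      omega
    refine no_small hna hP hmem ?_
    have := Block.DGS.simple_orders hna hlt
    simp only [Block.DGS.orders, List.mem_cons, List.not_mem_nil, or_false] at this ⊢
    omega
  · have h5 : ∀ g : G, 5 ≤ cn g := fun g => five_le_cn hna (by simp; omega) g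
    have hexc := large_profile hP hge fun x hx => by
      obtain ⟨g, rfl⟩ := hmem x hx
      exact h5 g
    simp only [excG, Bool.and_eq_true, Bool.or_eq_true, List.all_eq_true, List.any_eq_true, beq_iff_eq,
      bne_iff_ne, ne_eq, List.contains_iff_mem] at hexc
    rcases hexc with h11 | ⟨⟨hN, hords⟩, hor⟩
    · haveI := Invol.M11Ord.m11_simple'
      exact Or.inl (Invol.M11Ord.mulEquiv_of_card h11 Fus.Mathieu.card11)
    have hpp : ∀ a : G, a ≠ 1 → IsPrimePow (orderOf a) := fun a ha => by
      have := hords _ (hR.mem_dat ha)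
      change orderOf a ∈ _ at this
      simp only [List.mem_cons, List.not_mem_nil, or_false] at this
      rcases this with e | e | e | e | e | e | e | e <;> rw [e]
      exacts [Nat.prime_two.isPrimePow, Nat.prime_three.isPrimePow, ⟨2, 2, Nat.prime_two.prime, by norm_num, rfl⟩,
        Nat.prime_five.isPrimePow, (by norm_num : Nat.Prime 7).isPrimePow,
        ⟨2, 3, Nat.prime_two.prime, by norm_num, rfl⟩, ⟨3, 2, Nat.prime_three.prime, by norm_num, rfl⟩,
        (by norm_num : Nat.Prime 13).isPrimePow]
    rcases Cfsg.Agent.S2497.result hna hpp with ⟨⟨e⟩⟩ | ⟨F, _, _, hF, ⟨e⟩⟩ | h34 |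
      ⟨F, _, _, ⟨hF, ⟨e⟩⟩ | ⟨hF, ⟨e⟩⟩⟩
    · exfalso
      have h6 := card_alt 6 (by norm_num)
      rw [show Nat.factorial 6 = 720 from rfl] at h6
      have := Nat.card_congr e.toEquiv
      omega
    · exfalso
      have hc := Nat.card_congr e.toEquiv
      simp only [Finset.mem_insert, Finset.mem_singleton] at hF
      rcases hF with hF | hF | hF | hF
      · rw [card_psl_two (n := 60) (by rw [hF]; decide)] at hc; omega
      · rw [card_psl_two (n := 168) (by rw [hF]; decide)] at hc; omega
      · rw [card_psl_two (n := 504) (by rw [hF]; decide)] at hc; omega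
      · rw [card_psl_two (n := 2448) (by rw [hF]; decide)] at hc; omega
    · exact Or.inr h34
    · exfalso
      have hS : Suz.SzField F 1 := ⟨le_rfl, by rw [hF]; rfl⟩
      let e' : G ≃* ↥(Cfsg.Sz F 1) := e.trans (Suz.szEquiv hS).symm
      have hc := Nat.card_congr e'.toEquiv
      rw [Suz.card_Sz hS] at hc
      norm_num at hc
      obtain ⟨x, hx, hx8⟩ := hor.resolve_left (fun h => h hc)
      obtain ⟨g, rfl⟩ := hmem x hx
      have hod : orderOf g ∣ 2 ^ 3 := by
        have := dvd_cn_self g
        rw [show cn g = 8 from hx8] at this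
        simpa using this
      obtain ⟨k, -, hk⟩ := (Nat.dvd_prime_pow Nat.prime_two).1 hod
      have := sixteen_le_cn_sz hS e' hk
      have h8 : cn g = 8 := hx8
      omega
    · exfalso
      have hS : Suz.SzField F 2 := ⟨by norm_num, by rw [hF]; rfl⟩
      have hc := Nat.card_congr (e.trans (Suz.szEquiv hS).symm).toEquiv
      rw [Suz.card_Sz hS] at hc
      norm_num at hc
      omega

end Cfsg.Agent.Fus.Ten
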