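import Cfsg.Agent.Lib.Fus.TenClasses.Forced

/-!
The tests of a full list of centralizer orders.
-/

set_option autoImplicit false

namespace Cfsg.Agent.Fus.Ten

open Cfsg.Agent.Fus.Nine (Cl invCount solCount strip ppow ppow_eq chkPrime chkPair chkFrob forceL_eq forceLL_eq blt_false
  blt_true ble_false)

variable {N : ℕ} {L : List Cl}

theorem Prof.once' (h : Prof N L) {p : ℕ} (hp : p.Prime) (hd : p ∣ N) (hd2 : ¬ p * p ∣ N) {x : Cl}
    (hx : x ∈ L) (hx2 : x.2 = p) :
    let m := L.countP (fun y => y.2 == p)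
    (p - 1) % m = 0 ∧ 2 ≤ (p - 1) / m ∧ N % (x.1 * ((p - 1) / m)) = 0 ∧
      N / (x.1 * ((p - 1) / m)) % p = 1 ∧ N / (x.1 * ((p - 1) / m)) ≠ 1 := by
  intro m
  obtain ⟨-, e, np, he, hm, hN, hnp, hnp1, -⟩ := h.once p hp hd hd2 x hx hx2
  have hm' : m * e = p - 1 := hm
  have hm0 : 0 < m := List.countP_pos_iff.2 ⟨x, hx, by simpa using hx2⟩
  have he' : (p - 1) / m = e := by rw [← hm', Nat.mul_div_cancel_left _ hm0]
  have hpos : 0 < x.1 * e := Nat.mul_pos (h.c_pos hx) (by omega)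
  rw [he', show N / (x.1 * e) = np by rw [← hN, Nat.mul_div_cancel_left _ hpos]]
  exact ⟨by rw [← hm']; exact Nat.mul_mod_right _ _, he, by rw [← hN]; exact Nat.mul_mod_right _ _, hnp, hnp1⟩

theorem chkInner_sound (h : Prof N L) (P : List ℕ) {x : Cl} (hx : x ∈ L) : chkInner N P L x = true := by
  simp only [chkInner, List.all_eq_true, Bool.and_eq_true, Bool.or_eq_true, Bool.not_eq_true', bne_iff_ne, ne_eq,
    beq_iff_eq, Nat.ble_eq, force_eq, List.any_eq_true]
  intro p _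
  by_cases hb : primeF p = true
  swap
  · exact Or.inl (Bool.eq_false_iff.2 hb)
  have hp := primeF_sound hb
  refine Or.inr ⟨?_, ?_⟩
  · by_cases h1 : x.2 % p = 0
    swap
    · exact Or.inl h1
    refine Or.inr ?_
    set q := strip p 64 x.2
    by_cases h2 : q = 1
    · exact Or.inl (Or.inl (Or.inl (Or.inl h2)))
    by_cases h3 : q % p = 0
    · exact Or.inl (Or.inl (Or.inl (Or.inr h3)))
    by_cases h4 : x.2 / q = ppow p 64 (x.2 / q)
    swap
    · exact Or.inl (Or.inl (Or.inr h4))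
    by_cases h5 : x.2 % q = 0
    swap
    · exact Or.inl (Or.inr h5)
    refine Or.inr ?_
    obtain ⟨k, hk⟩ := ppow_eq p 64 (x.2 / q)
    obtain ⟨y, hy, hy2, hxy, hsq⟩ := h.psqIn x hx p k q hp
      (by rw [← hk, ← h4, Nat.mul_div_cancel' (Nat.dvd_of_mod_eq_zero h5)]) h2
      (fun e => h3 (Nat.mod_eq_zero_of_dvd e))
    refine ⟨y, hy, ⟨hy2, Nat.mod_eq_zero_of_dvd hxy⟩, ?_⟩
    by_cases h6 : y.1 % (p * p) = 0
    · exact Or.inr (Nat.mod_eq_zero_of_dvd (hsq (Nat.dvd_of_mod_eq_zero h6)))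
    · exact Or.inl h6
  · by_cases h1 : x.1 % p = 0
    swap
    · exact Or.inl (Or.inl (Or.inl (Or.inl (Or.inl h1))))
    by_cases h2 : x.1 % (p * p) = 0
    · exact Or.inl (Or.inl (Or.inl (Or.inl (Or.inr h2))))
    by_cases h3 : x.2 % p = 0
    · exact Or.inl (Or.inl (Or.inl (Or.inr h3)))
    by_cases h5 : L.countP (fun y => y.2 == x.2) = 1
    swap
    · exact Or.inl (Or.inr h5)
    exact Or.inr (h.onceIn x hx p hp (Nat.dvd_of_mod_eq_zero h1) (fun e => h2 (Nat.mod_eq_zero_of_dvd e))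
      (fun e => h3 (Nat.mod_eq_zero_of_dvd e)) h5)

theorem chk_sound (h : Prof N L) (P : List ℕ) : chk N P L = true := by
  simp only [chk, Bool.and_eq_true, List.all_eq_true, Bool.or_eq_true, Bool.not_eq_true', bne_iff_ne, ne_eq,
    beq_iff_eq, Nat.ble_eq]
  refine ⟨⟨⟨⟨⟨fun x hx => ?_, fun p _ => ?_⟩, fun p _ => ?_⟩, fun x hx => chkInner_sound h P hx⟩, h.inv_le⟩, fun p _ => ?_⟩
  · by_cases hx2 : x.2 = 2
    · exact Or.inr (Nat.mod_eq_zero_of_dvd (h.inv x hx hx2))
    · exact Or.inl hx2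
  · by_cases hb : primeF p = true
    swap
    · exact Or.inl (Or.inl (Bool.eq_false_iff.2 hb))
    by_cases hd : N % p = 0
    swap
    · exact Or.inl (Or.inr hd)
    refine Or.inr ?_
    have hp := primeF_sound hb
    obtain ⟨x, hx, hx2, hxd⟩ := h.full p hp (Nat.dvd_of_mod_eq_zero hd)
    simp only [chkPrime, Bool.and_eq_true, List.any_eq_true, List.mem_filter, beq_iff_eq, bne_iff_ne, ne_eq]
    refine ⟨⟨x, ⟨hx, hx2⟩, fun e => hxd (Nat.dvd_of_mod_eq_zero e)⟩, ?_⟩
    by_cases hsq : N % (p * p) = 0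
    · rw [show (N % (p * p) != 0) = false by simpa using hsq, cond_false]
      simp only [List.all_eq_true, Bool.or_eq_true, bne_iff_ne, ne_eq, beq_iff_eq]
      intro y hy
      by_cases hy2 : ppow p 64 y.2 = y.2
      · obtain ⟨k, hk⟩ := ppow_eq p 64 y.2
        exact Or.inr (Nat.mod_eq_zero_of_dvd (h.psq p k hp (Nat.dvd_of_mod_eq_zero hsq) y hy (hy2 ▸ hk)))
      · exact Or.inl hy2
    · rw [show (N % (p * p) != 0) = true by simpa using hsq, cond_true]
      simp only [List.all_eq_true, Bool.and_eq_true, List.mem_filter, beq_iff_eq, Nat.ble_eq, bne_iff_ne, ne_eq,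
        Bool.or_eq_true, ← List.countP_eq_length_filter]
      rintro y ⟨hy, hy2⟩
      have hsq' : ¬ p * p ∣ N := fun hh => hsq (Nat.mod_eq_zero_of_dvd hh)
      have h1 := (h.once p hp (Nat.dvd_of_mod_eq_zero hd) hsq' y hy hy2).1
      obtain ⟨a1, a2, a3, a4, a5⟩ := h.once' hp (Nat.dvd_of_mod_eq_zero hd) hsq' hy hy2
      refine ⟨⟨fun z hz => (h1 z hz.1).1 hz.2, ⟨⟨⟨a1, a2⟩, a3⟩, a4⟩, a5⟩, fun z hz => ?_⟩
      by_cases hz2 : z.2 % p = 0
      · exact Or.inr (Nat.mod_eq_zero_of_dvd ((h1 z hz).2 (Nat.dvd_of_mod_eq_zero hz2)))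
      · exact Or.inl hz2
  · by_cases hb : primeF p = true
    swap
    · exact Or.inl (Bool.eq_false_iff.2 hb)
    refine Or.inr fun x hx => ?_
    simp only [chkPair, Bool.and_eq_true, Bool.or_eq_true, List.any_eq_true, bne_iff_ne, ne_eq, beq_iff_eq]
    constructor
    · by_cases h1 : x.2 % p = 0
      · by_cases h2 : x.2 = p
        · exact Or.inl (Or.inr h2)
        · obtain ⟨y, hy, e1, e2⟩ := h.pow x hx p (primeF_sound hb) (Nat.dvd_of_mod_eq_zero h1) h2
          exact Or.inr ⟨y, hy, e1, Nat.mod_eq_zero_of_dvd e2⟩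
      · exact Or.inl (Or.inl h1)
    · by_cases h1 : x.1 % p = 0
      · by_cases h2 : x.2 % p = 0
        · exact Or.inl (Or.inr h2)
        · obtain ⟨y, hy, e1, e2⟩ := h.mul x hx p (primeF_sound hb) (Nat.dvd_of_mod_eq_zero h1)
            fun hh => h2 (Nat.mod_eq_zero_of_dvd hh)
          exact Or.inr ⟨y, hy, e1, Nat.mod_eq_zero_of_dvd e2⟩
      · exact Or.inl (Or.inl h1)
  · by_cases hb : primeF p = true
    swap
    · exact Or.inl (Bool.eq_false_iff.2 hb)
    refine Or.inr ?_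
    suffices ∀ f q, chkFrob N L p f q = true from this _ _
    intro f
    induction f with
    | zero => intro q; rfl
    | succ f ih =>
      intro q
      simp only [chkFrob, Bool.and_eq_true, Bool.or_eq_true, bne_iff_ne, ne_eq, beq_iff_eq]
      by_cases hq : N % q = 0
      · exact Or.inr ⟨Nat.mod_eq_zero_of_dvd (h.frob q (Nat.dvd_of_mod_eq_zero hq)), ih _⟩
      · exact Or.inl hq

theorem gate_sound (h : Prof N L) {l : List ℕ} (hl : l.Perm (L.map Prod.fst)) : gate N l = true := by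
  simp only [gate, Bool.and_eq_true, List.all_eq_true, List.any_eq_true, hl.mem_iff, List.mem_map, beq_iff_eq,
    bne_iff_ne, ne_eq, Nat.ble_eq, Nat.blt_eq, Bool.or_eq_true, forall_exists_index, and_imp,
    forall_apply_eq_imp_iff₂, exists_exists_and_eq_and]
  refine ⟨⟨⟨Nat.mod_eq_zero_of_dvd h.four, fun x hx =>
    ⟨Nat.mod_eq_zero_of_dvd (h.basic x hx).1, (h.basic x hx).2.2.2⟩⟩, ?_⟩, fun x hx =>
      Or.inr (Nat.mod_eq_zero_of_dvd (h.index x hx))⟩
  obtain ⟨x, hx, hx2, hxd⟩ := h.full 2 Nat.prime_two ((dvd_mul_right 2 2).trans h.four)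
  refine ⟨x, hx, fun e => hxd (Nat.dvd_of_mod_eq_zero e), ?_⟩
  have hI : N / x.1 ≤ invCount N L := by
    refine List.single_le_sum (fun a _ => Nat.zero_le a) _ (List.mem_map.2 ⟨x, hx, ?_⟩)
    simp [hx2]
  have hN := Nat.div_mul_cancel (h.basic x hx).1
  have h1 : (N / x.1) * (N / x.1) ≤ 10 * N :=
    (Nat.mul_le_mul (by omega) (by omega)).trans h.inv_le
  have h2 : N * N ≤ N * (10 * (x.1 * x.1)) := by
    calc N * N = (N / x.1 * x.1) * (N / x.1 * x.1) := by rw [hN]
      _ = (N / x.1 * (N / x.1)) * (x.1 * x.1) := by ring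
      _ ≤ (10 * N) * (x.1 * x.1) := Nat.mul_le_mul h1 le_rfl
      _ = N * (10 * (x.1 * x.1)) := by ring
  exact Nat.le_of_mul_le_mul_left h2 h.pos

theorem gateP_sound (h : Prof N L) {l : List ℕ} (hl : l.Perm (L.map Prod.fst)) (p : ℕ) : gateP N l p = true := by
  simp only [gateP, Bool.or_eq_true, Bool.not_eq_true', bne_iff_ne, ne_eq]
  by_cases hb : primeF p = true
  swap
  · exact Or.inl (Or.inl (Bool.eq_false_iff.2 hb))
  by_cases hd : N % p = 0
  swap
  · exact Or.inl (Or.inr hd)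
  refine Or.inr ?_
  have hp := primeF_sound hb
  obtain ⟨x, hx, hx2, hxd⟩ := h.full p hp (Nat.dvd_of_mod_eq_zero hd)
  have hpc : x.1 % p = 0 := Nat.mod_eq_zero_of_dvd (hx2 ▸ (h.basic x hx).2.1)
  simp only [Bool.and_eq_true, Bool.or_eq_true, List.any_eq_true, hl.countP_eq, hl.mem_iff, List.mem_map, beq_iff_eq, bne_iff_ne, ne_eq,
    exists_exists_and_eq_and, Nat.ble_eq]
  refine ⟨⟨x, hx, hpc, fun e => hxd (Nat.dvd_of_mod_eq_zero e)⟩, ?_⟩
  by_cases hsq : N % (p * p) = 0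
  · exact Or.inl hsq
  have hsq' : ¬ p * p ∣ N := fun hh => hsq (Nat.mod_eq_zero_of_dvd hh)
  obtain ⟨a1, a2, a3, a4, a5⟩ := h.once' hp (Nat.dvd_of_mod_eq_zero hd) hsq' hx hx2
  refine Or.inr ⟨x, hx, hpc, L.countP (fun y => y.2 == p), List.mem_range'_1.2 ⟨?_, ?_⟩, ⟨⟨⟨a1, a2⟩, a3⟩, a4⟩, a5⟩
  · exact List.countP_pos_iff.2 ⟨x, hx, by simpa using hx2⟩
  · have h1 := (h.once p hp (Nat.dvd_of_mod_eq_zero hd) hsq' x hx hx2).1
    have hle : L.countP (fun y => y.2 == p) ≤ L.countP (fun y => y.1 == x.1) :=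
      List.countP_mono_left fun y hy hy2 => by simpa using (h1 y hy).1 (by simpa using hy2)
    have hc : (L.map Prod.fst).countP (· == x.1) = L.countP (fun y => y.1 == x.1) := by
      rw [List.countP_map]; rfl
    omega

theorem mem_options (h : Prof N L) {A : ℕ → ℕ → Bool} (hA : ∀ x ∈ L, A x.1 x.2 = true) (P : List ℕ)
    {l : List ℕ} (hl : l.Perm (L.map Prod.fst)) {c : CP} (hc : Good c) {x : Cl}
    (hx : x ∈ L) (hxc : x.1 = c.1) :
    x.2 ∈ (divList c.2 c.1).filter fun d => Nat.blt 1 d && A c.1 d && okOpt N P (l.erase c.1) c.1 d := by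
  obtain ⟨-, hoc, ho, -⟩ := h.basic x hx
  rw [← hxc]
  refine List.mem_filter.2 ⟨mem_divList (h.c_pos hx) c.2 (fun r hr => ((hc r).1 hr).1) _ hoc
    (fun r hr hrd => (hc r).2 ⟨hr, hxc ▸ hrd.trans hoc⟩), ?_⟩
  rw [hA x hx, blt_true ho, Bool.true_and, Bool.true_and]
  have hother : ∀ y ∈ L, y ≠ x → y.1 ∈ l.erase x.1 := fun y hy hne => by
    have hp := ((List.perm_cons_erase hx).map Prod.fst).erase x.1
    rw [List.map_cons, List.erase_cons_head] at hp
    exact ((hl.erase x.1).trans hp).mem_iff.2 (List.mem_map.2 ⟨y, (List.mem_erase_of_ne hne).2 hy, rfl⟩)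
  simp only [okOpt, Bool.and_eq_true, Bool.or_eq_true, List.all_eq_true, List.any_eq_true, Bool.not_eq_true',
    bne_iff_ne, ne_eq, beq_iff_eq]
  refine ⟨?_, fun p _ => ?_⟩
  · by_cases hx2 : x.2 = 2
    · exact Or.inr (Nat.mod_eq_zero_of_dvd (h.inv x hx hx2))
    · exact Or.inl hx2
  by_cases hb : primeF p = true
  swap
  · exact Or.inl (Bool.eq_false_iff.2 hb)
  have hp := primeF_sound hb
  refine Or.inr ⟨⟨?_, ?_⟩, ?_⟩
  · by_cases h1 : x.2 % p = 0
    · by_cases h2 : x.2 = p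
      · exact Or.inl (Or.inr h2)
      · obtain ⟨y, hy, e1, e2⟩ := h.pow x hx p hp (Nat.dvd_of_mod_eq_zero h1) h2
        have hne : y ≠ x := fun e => by
          subst e
          have := Nat.div_lt_self (show 0 < y.2 by omega) hp.one_lt
          omega
        exact Or.inr ⟨y.1, hother y hy hne, Nat.mod_eq_zero_of_dvd e2,
          Nat.mod_eq_zero_of_dvd (e1 ▸ (h.basic y hy).2.1)⟩
    · exact Or.inl (Or.inl h1)
  · by_cases h1 : x.1 % p = 0
    · by_cases h2 : x.2 % p = 0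
      · exact Or.inl (Or.inr h2)
      · obtain ⟨y, hy, e1, e2⟩ := h.mul x hx p hp (Nat.dvd_of_mod_eq_zero h1)
          fun hh => h2 (Nat.mod_eq_zero_of_dvd hh)
        have hne : y ≠ x := fun e => by
          subst e
          have := Nat.mul_le_mul_left y.2 hp.two_le
          omega
        exact Or.inr ⟨y.1, hother y hy hne, Nat.mod_eq_zero_of_dvd e2,
          Nat.mod_eq_zero_of_dvd (e1 ▸ (h.basic y hy).2.1)⟩
    · exact Or.inl (Or.inl h1)
  · by_cases h1 : ppow p 64 x.2 = x.2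
    · by_cases h2 : N % (p * p) = 0
      · obtain ⟨k, hk⟩ := ppow_eq p 64 x.2
        exact Or.inr (Nat.mod_eq_zero_of_dvd (h.psq p k hp (Nat.dvd_of_mod_eq_zero h2) x hx (h1 ▸ hk)))
      · exact Or.inl (Or.inr h2)
    · exact Or.inl (Or.inl h1)

theorem asg_sound (part : List Cl → List (ℕ × List ℕ) → Bool) (leaf : List Cl → Bool) (M : List Cl) (hs : Sorted M)
    (hpart : ∀ A R M', M = M'.reverse ++ A → List.Forall₂ (fun x o => x.1 = o.1 ∧ x.2 ∈ o.2) M' R →
      part A R = true) :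
    ∀ (R : List (ℕ × List ℕ)) (A M' : List Cl), asg part leaf R A = true → M = M'.reverse ++ A →
      List.Forall₂ (fun x o => x.1 = o.1 ∧ x.2 ∈ o.2) M' R → leaf M = true
  | [], A, M', hr, hM, hf => by
    cases hf
    rw [hM]
    simpa [asg] using hr
  | o :: R, A, M', hr, hM, hf => by
    rcases M' with _ | ⟨x, M'⟩
    · cases hf
    rw [asg, hpart A (o :: R) _ hM hf, Bool.not_true, Bool.false_or, List.all_eq_true] at hr
    rw [List.forall₂_cons] at hf
    obtain ⟨⟨h1, h2⟩, hf⟩ := hf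
    have h3 := hr x.2 h2
    rw [Bool.or_eq_true] at h3
    have hM' : M = M'.reverse ++ (x :: A) := by rw [hM]; simp
    have h4 : asg part leaf R ((o.1, x.2) :: A) = true := h3.resolve_left fun hb => by
      rcases A with _ | ⟨y, A⟩
      · simp at hb
      · simp only [Bool.and_eq_true, beq_iff_eq, Nat.blt_eq] at hb
        rw [Sorted, hM'] at hs
        have := (List.pairwise_cons.1 (List.pairwise_append.1 hs).2.1).1 y List.mem_cons_self
        omega
    rw [← h1] at h4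
    exact asg_sound part leaf M hs hpart R (x :: A) M' h4 hM' hf

theorem forall₂_mem {M' : List Cl} {R : List (ℕ × List ℕ)}
    (hf : List.Forall₂ (fun x o => x.1 = o.1 ∧ x.2 ∈ o.2) M' R) {y : Cl} (hy : y ∈ M') :
    ∃ o ∈ R, y.1 = o.1 ∧ y.2 ∈ o.2 := by
  induction hf with
  | nil => simp at hy
  | cons h _ ih =>
    rcases List.mem_cons.1 hy with rfl | hy
    · exact ⟨_, List.mem_cons_self, h⟩
    · obtain ⟨o, ho, h'⟩ := ih hy
      exact ⟨o, List.mem_cons_of_mem _ ho, h'⟩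

theorem partOK_sound (h : Prof N L) (P : List ℕ) {A M' : List Cl} {R : List (ℕ × List ℕ)}
    (hM : L = M'.reverse ++ A) (hf : List.Forall₂ (fun x o => x.1 = o.1 ∧ x.2 ∈ o.2) M' R) :
    partOK N P A R = true := by
  have can : ∀ (f : ℕ → Bool) (q : ℕ), (∃ y ∈ L, y.2 = q ∧ f y.1 = true) → canHave A R f q = true := by
    rintro f q ⟨y, hy, hy2, hyf⟩
    rw [canHave, Bool.or_eq_true, List.any_eq_true, List.any_eq_true]
    rw [hM, List.mem_append, List.mem_reverse] at hy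
    rcases hy with hy | hy
    · obtain ⟨o, ho, h1, h2⟩ := forall₂_mem hf hy
      exact Or.inr ⟨o, ho, by rw [← h1, hyf, ← hy2]; simpa using h2⟩
    · exact Or.inl ⟨y, hy, by simp [hy2, hyf]⟩
  have hA : ∀ x ∈ A, x ∈ L := fun x hx => by rw [hM]; simp [hx]
  rw [partOK, List.all_eq_true]
  intro p _
  rw [Bool.or_eq_true, Bool.or_eq_true, Bool.not_eq_true', bne_iff_ne]
  by_cases hb : primeF p = true
  swap
  · exact Or.inl (Or.inl (Bool.eq_false_iff.2 hb))
  by_cases hd : N % p = 0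
  swap
  · exact Or.inl (Or.inr hd)
  refine Or.inr ?_
  have hp := primeF_sound hb
  obtain ⟨x, hx, hx2, hxd⟩ := h.full p hp (Nat.dvd_of_mod_eq_zero hd)
  rw [Bool.and_eq_true, List.all_eq_true]
  refine ⟨can _ _ ⟨x, hx, hx2, by simpa using fun e => hxd (Nat.dvd_of_mod_eq_zero e)⟩, fun z hz => ?_⟩
  simp only [Bool.and_eq_true, Bool.or_eq_true, bne_iff_ne, ne_eq, beq_iff_eq, List.all_eq_true]
  refine ⟨⟨?_, ?_⟩, ?_⟩
  · by_cases h1 : z.2 % p = 0
    · by_cases h2 : z.2 = p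
      · exact Or.inl (Or.inr h2)
      · obtain ⟨y, hy, e1, e2⟩ := h.pow z (hA z hz) p hp (Nat.dvd_of_mod_eq_zero h1) h2
        exact Or.inr (can _ _ ⟨y, hy, e1, by simpa using Nat.mod_eq_zero_of_dvd e2⟩)
    · exact Or.inl (Or.inl h1)
  · by_cases h1 : z.1 % p = 0
    · by_cases h2 : z.2 % p = 0
      · exact Or.inl (Or.inr h2)
      · obtain ⟨y, hy, e1, e2⟩ := h.mul z (hA z hz) p hp (Nat.dvd_of_mod_eq_zero h1)
          fun hh => h2 (Nat.mod_eq_zero_of_dvd hh)
        exact Or.inr (can _ _ ⟨y, hy, e1, by simpa using Nat.mod_eq_zero_of_dvd e2⟩)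
    · exact Or.inl (Or.inl h1)
  · by_cases h1 : z.2 = p
    swap
    · exact Or.inl (Or.inl h1)
    by_cases hsq : N % (p * p) = 0
    · exact Or.inl (Or.inr hsq)
    refine Or.inr fun y hy => ?_
    obtain ⟨h2, -⟩ := h.once p hp (Nat.dvd_of_mod_eq_zero hd) (fun e => hsq (Nat.mod_eq_zero_of_dvd e)) z
      (hA z hz) h1
    refine ⟨?_, ?_⟩
    · by_cases h3 : y.2 = p
      · exact Or.inr ((h2 y (hA y hy)).1 h3)
      · exact Or.inl h3
    · by_cases h3 : y.2 % p = 0
      · exact Or.inr (Nat.mod_eq_zero_of_dvd ((h2 y (hA y hy)).2 (Nat.dvd_of_mod_eq_zero h3)))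
      · exact Or.inl h3

theorem forall₂_options {α : Type} (g : CP → α) (R : Cl → α → Prop) : ∀ (l : List Cl) (cs : List CP),
    l.map Prod.fst = cs.map Prod.fst → (∀ x ∈ l, ∀ c ∈ cs, x.1 = c.1 → R x (g c)) →
    List.Forall₂ R l (cs.map g)
  | [], [], _, _ => List.Forall₂.nil
  | x :: l, c :: cs, e, h => by
    simp only [List.map_cons, List.cons.injEq] at e
    exact List.Forall₂.cons (h x List.mem_cons_self c List.mem_cons_self e.1)
      (forall₂_options g R l cs e.2 fun y hy d hd => h y (List.mem_cons_of_mem _ hy) d (List.mem_cons_of_mem _ hd))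
  | [], _ :: _, e, _ => by simp at e
  | _ :: _, [], e, _ => by simp at e

theorem phase2_sound {A : ℕ → ℕ → Bool} {exc : ℕ → List Cl → Bool} {cs : List CP} {P : List ℕ} (h : Prof N L)
    (hs : Sorted L) (s : St L cs P []) (hA : ∀ x ∈ L, A x.1 x.2 = true) (hr : phase2 A exc N P cs = true) :
    exc N L = true := by
  have hmap : cs.map Prod.fst = L.reverse.map Prod.fst := by
    rw [List.map_reverse, s.eqn]; simp
  have hperm : (cs.map Prod.fst).Perm (L.map Prod.fst) := hmap ▸ (L.reverse_perm).map Prod.fst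
  have h2 : (cs.all fun x => N % (x.1 * x.1) != 0 || !isP x) = true := by
    rw [List.all_eq_true]
    intro x hx
    rw [Bool.or_eq_true, bne_iff_ne, Bool.not_eq_true']
    by_cases hb : isP x = true
    · obtain ⟨y, hy, hy1⟩ := s.exists_mem hx
      refine Or.inl fun e => (h.prime_cn hy (hy1 ▸ s.isP_prime hx hb)).2.1 ?_
      rw [hy1]
      exact Nat.dvd_of_mod_eq_zero e
    · exact Or.inr (Bool.eq_false_iff.2 hb)
  rw [phase2, gate_sound h hperm, h2,
    show P.all (gateP N (cs.map Prod.fst)) = true from List.all_eq_true.2 fun p _ => gateP_sound h hperm p,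
    forceLL_eq] at hr
  simp only [Bool.not_true, Bool.false_or] at hr
  have := asg_sound _ _ L hs (fun A' R' M' e1 e2 => partOK_sound h P e1 e2) _ [] L.reverse hr (by simp) ?_
  · simpa [chk_sound h] using this
  · rw [options]
    exact forall₂_options _ _ _ _ hmap.symm fun x hx c hc hxc =>
      ⟨hxc, mem_options h hA P hperm (s.good c hc) (List.mem_reverse.1 hx) hxc⟩

end Cfsg.Agent.Fus.Ten
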