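import Cfsg.Agent.Lib.Fus.TenClasses.Basic

/-!
The class data of a simple group with ten classes, and what they say about a partial list of
centralizer orders.
-/

set_option autoImplicit false

namespace Cfsg.Agent.Fus.Ten

open Cfsg.Agent.Fus.Nine (Cl invCount solCount forceL_eq blt_false blt_true ble_false)

/-- The facts about the nine non-identity classes of a simple group with ten classes. -/
structure Prof (N : ℕ) (L : List Cl) : Prop where
  len : L.length = 9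
  sum : 1 + (L.map fun x => N / x.1).sum = N
  basic : ∀ x ∈ L, x.1 ∣ N ∧ x.2 ∣ x.1 ∧ 1 < x.2 ∧ x.1 < N
  four : 4 ∣ N
  inv : ∀ x ∈ L, x.2 = 2 → 4 ∣ x.1
  full : ∀ p, p.Prime → p ∣ N → ∃ x ∈ L, x.2 = p ∧ ¬ p ∣ N / x.1
  psq : ∀ p k, p.Prime → p * p ∣ N → ∀ x ∈ L, x.2 = p ^ k → p * p ∣ x.1
  once : ∀ p, p.Prime → p ∣ N → ¬ p * p ∣ N → ∀ x ∈ L, x.2 = p →
    (∀ y ∈ L, (y.2 = p → y.1 = x.1) ∧ (p ∣ y.2 → y.1 ∣ x.1)) ∧
      ∃ e np, 2 ≤ e ∧ L.countP (fun y => y.2 == p) * e = p - 1 ∧ x.1 * e * np = N ∧ np % p = 1 ∧ np ≠ 1 ∧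
        ∃ y ∈ L, e ∣ y.2
  pow : ∀ x ∈ L, ∀ p, p.Prime → p ∣ x.2 → x.2 ≠ p → ∃ y ∈ L, y.2 = x.2 / p ∧ x.1 ∣ y.1
  mul : ∀ x ∈ L, ∀ p, p.Prime → p ∣ x.1 → ¬ p ∣ x.2 → ∃ y ∈ L, y.2 = x.2 * p ∧ y.1 ∣ x.1
  psqIn : ∀ x ∈ L, ∀ p k q, p.Prime → x.2 = q * p ^ k → q ≠ 1 → ¬ p ∣ q →
    ∃ y ∈ L, y.2 = q ∧ x.1 ∣ y.1 ∧ (p * p ∣ y.1 → p * p ∣ x.1)
  onceIn : ∀ x ∈ L, ∀ p, p.Prime → p ∣ x.1 → ¬ p * p ∣ x.1 → ¬ p ∣ x.2 →
    L.countP (fun y => y.2 == x.2) = 1 → L.countP (fun y => y.2 == x.2 * p) ≤ p - 1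
  index : ∀ x ∈ L, 2 * N ∣ (N / x.1).factorial
  inv_le : (invCount N L + 1) * (invCount N L + 1) ≤ 10 * N
  frob : ∀ d, d ∣ N → d ∣ solCount N L d

theorem Prof.perm {N : ℕ} {L L' : List Cl} (h : Prof N L) (e : L.Perm L') : Prof N L' where
  len := e.length_eq ▸ h.len
  sum := by rw [← (e.map _).sum_eq]; exact h.sum
  basic x hx := h.basic x (e.mem_iff.2 hx)
  four := h.four
  inv x hx := h.inv x (e.mem_iff.2 hx)
  full p hp hd := by
    obtain ⟨x, hx, h1⟩ := h.full p hp hd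
    exact ⟨x, e.mem_iff.1 hx, h1⟩
  psq p k hp hd x hx := h.psq p k hp hd x (e.mem_iff.2 hx)
  once p hp hd hd2 x hx hx2 := by
    obtain ⟨h1, e', np, h2, h3, h4, h5, h6, y, hy, h7⟩ := h.once p hp hd hd2 x (e.mem_iff.2 hx) hx2
    exact ⟨fun y hy => h1 y (e.mem_iff.2 hy), e', np, h2, by rw [← e.countP_eq]; exact h3, h4, h5, h6,
      y, e.mem_iff.1 hy, h7⟩
  pow x hx p hp h1 h2 := by
    obtain ⟨y, hy, h3⟩ := h.pow x (e.mem_iff.2 hx) p hp h1 h2
    exact ⟨y, e.mem_iff.1 hy, h3⟩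
  mul x hx p hp h1 h2 := by
    obtain ⟨y, hy, h3⟩ := h.mul x (e.mem_iff.2 hx) p hp h1 h2
    exact ⟨y, e.mem_iff.1 hy, h3⟩
  psqIn x hx p k q hp h1 h2 h3 := by
    obtain ⟨y, hy, h4⟩ := h.psqIn x (e.mem_iff.2 hx) p k q hp h1 h2 h3
    exact ⟨y, e.mem_iff.1 hy, h4⟩
  onceIn x hx p hp h1 h2 h3 h4 := by
    rw [← e.countP_eq]
    exact h.onceIn x (e.mem_iff.2 hx) p hp h1 h2 h3 (by rw [e.countP_eq]; exact h4)
  index x hx := h.index x (e.mem_iff.2 hx)
  inv_le := by rw [invCount, ← (e.map _).sum_eq]; exact h.inv_le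
  frob d hd := by rw [solCount, ← (e.map _).sum_eq]; exact h.frob d hd

variable {N : ℕ} {L : List Cl}

theorem Prof.pos (h : Prof N L) : 0 < N := by
  have := h.sum
  omega

theorem Prof.c_pos (h : Prof N L) {x : Cl} (hx : x ∈ L) : 0 < x.1 :=
  Nat.pos_of_dvd_of_pos (h.basic x hx).1 h.pos

theorem Prof.two_le (h : Prof N L) {x : Cl} (hx : x ∈ L) : 2 ≤ x.1 :=
  (h.basic x hx).2.2.1.trans_le (Nat.le_of_dvd (h.c_pos hx) (h.basic x hx).2.1)

/-- The powers of an element. -/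
theorem Prof.chain (h : Prof N L) : ∀ (n : ℕ), ∀ x ∈ L, x.2 = n → ∀ d, d ∣ n → 1 < d →
    ∃ z ∈ L, z.2 = d ∧ x.1 ∣ z.1 := by
  intro n
  induction n using Nat.strongRecOn with
  | ind n ih =>
    intro x hx hn d hd hd1
    by_cases e : d = n
    · exact ⟨x, hx, hn.trans e.symm, dvd_rfl⟩
    have hn1 : 1 < n := hn ▸ (h.basic x hx).2.2.1
    have hdlt : d < n := lt_of_le_of_ne (Nat.le_of_dvd (by omega) hd) e
    obtain ⟨k, hk⟩ := hd
    have hk1 : k ≠ 1 := fun e1 => e (by rw [hk, e1, mul_one])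
    obtain ⟨p, hp, j, hj⟩ := Nat.exists_prime_and_dvd hk1
    have hpn : p ∣ x.2 := by rw [hn, hk, hj]; exact Dvd.intro_left _ (by ring : d * j * p = d * (p * j))
    have hne : x.2 ≠ p := fun e1 => by
      rw [hn] at e1
      have hdp : d ∣ p := e1 ▸ (⟨k, hk⟩ : d ∣ n)
      rcases (Nat.dvd_prime hp).1 hdp with h1 | h1 <;> omega
    obtain ⟨y, hy, hy2, hxy⟩ := h.pow x hx p hp hpn hne
    have hy2' : y.2 = d * j := by
      rw [hy2, hn, hk, hj, show d * (p * j) = p * (d * j) by ring, Nat.mul_div_cancel_left _ hp.pos]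
    obtain ⟨z, hz, hz2, hyz⟩ := ih y.2 (by rw [hy2, hn]; exact Nat.div_lt_self (by omega) hp.one_lt) y hy rfl d
      (hy2' ▸ dvd_mul_right _ _) hd1
    exact ⟨z, hz, hz2, hxy.trans hyz⟩

theorem le_countP (f : Cl → Bool) (s : Finset ℕ) (hs : ∀ d ∈ s, ∃ z ∈ L, z.2 = d ∧ f z = true) :
    s.card ≤ L.countP f := by
  refine (Finset.card_le_card (t := ((L.filter f).map Prod.snd).toFinset) fun d hd => ?_).trans ?_
  · obtain ⟨z, hz, hz2, hzf⟩ := hs d hd
    exact List.mem_toFinset.2 (List.mem_map.2 ⟨z, List.mem_filter.2 ⟨hz, hzf⟩, hz2⟩)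
  · refine (List.toFinset_card_le _).trans ?_
    rw [List.length_map, List.countP_eq_length_filter]

/-- Three classes for two commuting primes. -/
theorem Prof.pair (h : Prof N L) {x : Cl} (hx : x ∈ L) : ∃ r, r.Prime ∧ r ∣ x.1 ∧
    ∀ q, q.Prime → q ∣ x.1 → q ≠ r → 3 ≤ L.countP (fun y => y.1 % (r * q) == 0) := by
  obtain ⟨-, hoc, ho, -⟩ := h.basic x hx
  obtain ⟨r, hr, hrd⟩ := Nat.exists_prime_and_dvd (show x.2 ≠ 1 by omega)
  refine ⟨r, hr, hrd.trans hoc, fun q hq hqc hqr => ?_⟩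
  obtain ⟨z, hz, hz2, hxz⟩ := h.chain _ x hx rfl r hrd hr.one_lt
  have hqr' : ¬ q ∣ r := fun e => hqr ((Nat.prime_dvd_prime_iff_eq hq hr).1 e)
  obtain ⟨w, hw, hw2, hwz⟩ := h.mul z hz q hq (hqc.trans hxz) (hz2 ▸ hqr')
  rw [hz2] at hw2
  have hne : w.2 ≠ r := fun e => by
    rw [hw2] at e
    have := Nat.mul_le_mul (le_refl r) hq.two_le
    have := hr.pos
    omega
  obtain ⟨u, hu, hu2, hwu⟩ := h.pow w hw r hr (hw2 ▸ dvd_mul_right r q) hne
  rw [hw2, Nat.mul_div_cancel_left _ hr.pos] at hu2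
  have hco : (r * q) ∣ x.1 := ((Nat.coprime_primes hr hq).2 (Ne.symm hqr)).mul_dvd_of_dvd_of_dvd (hrd.trans hoc) hqc
  have hwd : r * q ∣ w.1 := hw2 ▸ (h.basic w hw).2.1
  have hcard : ({r, r * q, q} : Finset ℕ).card = 3 := by
    have h1 : r ≠ r * q := fun e => hne (hw2.trans e.symm)
    have h2 : r * q ≠ q := fun e => by
      have := Nat.mul_le_mul hr.two_le (le_refl q)
      have := hq.pos
      omega
    exact Finset.card_eq_three.2 ⟨r, r * q, q, h1, Ne.symm hqr, h2, rfl⟩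
  rw [← hcard]
  refine le_countP _ _ fun d hd => ?_
  simp only [Finset.mem_insert, Finset.mem_singleton] at hd
  simp only [beq_iff_eq]
  rcases hd with rfl | rfl | rfl
  · exact ⟨z, hz, hz2, Nat.mod_eq_zero_of_dvd (hco.trans hxz)⟩
  · exact ⟨w, hw, hw2, Nat.mod_eq_zero_of_dvd hwd⟩
  · exact ⟨u, hu, hu2, Nat.mod_eq_zero_of_dvd (hwd.trans hwu)⟩

/-- A prime centralizer order. -/
theorem Prof.prime_cn (h : Prof N L) {x : Cl} (hx : x ∈ L) (hp : x.1.Prime) :
    x.2 = x.1 ∧ ¬ x.1 * x.1 ∣ N ∧ (∀ y ∈ L, x.1 ∣ y.1 → y.1 = x.1) ∧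
      ∃ e, 2 ≤ e ∧ L.countP (fun y => y.1 == x.1) * e = x.1 - 1 ∧
        ∀ d, d ∣ e → 1 < d → ∃ z ∈ L, z.2 = d ∧ e ∣ z.1 := by
  obtain ⟨hcN, hoc, ho, -⟩ := h.basic x hx
  have hox : x.2 = x.1 := ((Nat.dvd_prime hp).1 hoc).resolve_left (by omega)
  have hsq : ¬ x.1 * x.1 ∣ N := fun hd => by
    have := Nat.le_of_dvd hp.pos (h.psq x.1 1 hp hd x hx (by rw [pow_one]; exact hox))
    nlinarith [hp.two_le]
  obtain ⟨h1, e, np, he, hm, -, -, -, y₀, hy₀, hey⟩ := h.once x.1 hp hcN hsq x hx hox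
  have key : ∀ y ∈ L, x.1 ∣ y.2 → y.1 = x.1 := fun y hy hd =>
    ((Nat.dvd_prime hp).1 ((h1 y hy).2 hd)).resolve_left (by have := h.two_le hy; omega)
  have hall : ∀ y ∈ L, x.1 ∣ y.1 → y.1 = x.1 := fun y hy hd => by
    by_cases hdo : x.1 ∣ y.2
    · exact key y hy hdo
    · obtain ⟨z, hz, hz2, -⟩ := h.mul y hy x.1 hp hd hdo
      have hz1 := key z hz (hz2 ▸ dvd_mul_left _ _)
      have h3 := (h.basic z hz).2.1
      rw [hz1, hz2] at h3
      have h2 := Nat.le_of_dvd hp.pos h3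
      have := (h.basic y hy).2.2.1
      nlinarith [hp.two_le]
  have hcnt : L.countP (fun y => y.1 == x.1) = L.countP (fun y => y.2 == x.1) :=
    List.countP_congr fun y hy => by
      simp only [beq_iff_eq]
      refine ⟨fun hy1 => ?_, fun hy2 => (h1 y hy).1 hy2⟩
      obtain ⟨-, hyo, hy2, -⟩ := h.basic y hy
      rw [hy1] at hyo
      exact ((Nat.dvd_prime hp).1 hyo).resolve_left (by omega)
  refine ⟨hox, hsq, hall, e, he, by rw [hcnt]; exact hm, fun d hd hd1 => ?_⟩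
  obtain ⟨z, hz, hz2, hyz⟩ := h.chain _ y₀ hy₀ rfl d (hd.trans hey) hd1
  exact ⟨z, hz, hz2, hey.trans ((h.basic y₀ hy₀).2.1.trans hyz)⟩

theorem Prof.count_orders (h : Prof N L) {e : ℕ} (he : 2 ≤ e)
    (hd : ∀ d, d ∣ e → 1 < d → ∃ z ∈ L, z.2 = d ∧ e ∣ z.1) :
    numOrders e 2 e + 1 ≤ L.countP (fun y => y.1 % e == 0) := by
  set S := (Nat.divisors e).filter fun x => 2 ≤ x ∧ 2 ≤ e / x
  have h1 : numOrders e 2 e ≤ S.card := numOrders_le e e 2 le_rfl
  have h2 : e ∉ S := fun hh => by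
    simp only [S, Finset.mem_filter, Nat.div_self (show 0 < e by omega)] at hh
    omega
  have h3 : (insert e S).card ≤ L.countP (fun y => y.1 % e == 0) := le_countP _ _ fun d hdd => by
    obtain ⟨h4, h5⟩ : d ∣ e ∧ 1 < d := by
      rcases Finset.mem_insert.1 hdd with rfl | hh
      · exact ⟨dvd_rfl, he⟩
      · simp only [S, Finset.mem_filter, Nat.mem_divisors] at hh
        exact ⟨hh.1.1, by omega⟩
    obtain ⟨z, hz, hz2, hze⟩ := hd d h4 h5
    exact ⟨z, hz, hz2, by simpa using Nat.mod_eq_zero_of_dvd hze⟩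
  rw [Finset.card_insert_of_notMem h2] at h3
  omega

/-- The order of the classes. -/
def Sorted (L : List Cl) : Prop := L.Pairwise fun a b => a.1 < b.1 ∨ (a.1 = b.1 ∧ a.2 ≤ b.2)

/-- A centralizer order with all its primes. -/
def Good (x : CP) : Prop := ∀ r, r ∈ x.2 ↔ r.Prime ∧ r ∣ x.1

theorem good_factor {P : List ℕ} (hP : GoodP P) {v : ℕ} (hv : 0 < v) : Good (v, factor P v) :=
  fun _ => mem_factor hP hv

/-- A partial list of centralizer orders, the largest first, and the missing ones. -/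
structure St (L : List Cl) (cs : List CP) (P rest : List ℕ) : Prop where
  eqn : L.map Prod.fst = (cs.map Prod.fst).reverse ++ rest
  good : ∀ x ∈ cs, Good x
  prm : GoodP P

variable {cs : List CP} {P rest : List ℕ}

theorem St.exists_mem (s : St L cs P rest) {x : CP} (hx : x ∈ cs) : ∃ y ∈ L, y.1 = x.1 := by
  have : x.1 ∈ L.map Prod.fst := by
    rw [s.eqn, List.mem_append, List.mem_reverse]
    exact Or.inl (List.mem_map.2 ⟨x, hx, rfl⟩)
  exact List.mem_map.1 this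

theorem St.exists_rest (s : St L cs P rest) {v : ℕ} (hv : v ∈ rest) : ∃ y ∈ L, y.1 = v := by
  have : v ∈ L.map Prod.fst := by rw [s.eqn, List.mem_append]; exact Or.inr hv
  exact List.mem_map.1 this

theorem St.count (s : St L cs P rest) (f : ℕ → Bool) :
    L.countP (fun y => f y.1) = cs.countP (fun y => f y.1) + rest.countP f := by
  have e : L.countP (fun y => f y.1) = (L.map Prod.fst).countP f := by rw [List.countP_map]; rfl
  rw [e, s.eqn, List.countP_append, List.countP_reverse, List.countP_map]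
  rfl

theorem St.count_cnt (s : St L cs P rest) (d : ℕ) :
    L.countP (fun y => y.1 % d == 0) = cnt cs d + rest.countP (fun v => v % d == 0) := by
  rw [s.count (fun v => v % d == 0), cnt, cntR_eq]
  congr 1
  refine List.countP_congr fun y _ => ?_
  simp only [beq_iff_eq]
  exact beq_iff.symm

theorem St.isP_prime (s : St L cs P rest) {x : CP} (hx : x ∈ cs) (h : isP x = true) : x.1.Prime := by
  obtain ⟨c, ps⟩ := x
  rcases ps with _ | ⟨q, _ | ⟨q', r⟩⟩ <;> simp only [isP, reduceCtorEq] at h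
  exact beq_iff.1 h ▸ ((s.good _ hx q).1 List.mem_cons_self).1

theorem St.le_head (s : St L cs P rest) (hs : Sorted L) {x : CP} (hx : x ∈ cs) :
    (∀ z : CP, x.1 ≤ (cs.headD z).1) ∧ ∀ z : CP, ∀ v ∈ rest, (cs.headD z).1 ≤ v := by
  have hpw : (L.map Prod.fst).Pairwise (· ≤ ·) := List.pairwise_map.2 (hs.imp fun {a b} hab => by omega)
  rw [s.eqn] at hpw
  obtain ⟨h1, -, h2⟩ := List.pairwise_append.1 hpw
  rcases cs with _ | ⟨c, cs⟩
  · simp at hx
  refine ⟨fun _ => ?_, fun _ v hv => h2 c.1 (by simp) v hv⟩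
  rcases List.mem_cons.1 hx with rfl | hx
  · exact le_rfl
  · rw [List.map_cons, List.reverse_cons] at h1
    exact (List.pairwise_append.1 h1).2.2 x.1 (List.mem_reverse.2 (List.mem_map.2 ⟨x, hx, rfl⟩)) c.1 (by simp)

theorem St.head_le (s : St L cs P rest) (hs : Sorted L) {v : ℕ} (hv : v ∈ rest) :
    (cs.headD (0, [])).1 ≤ v := by
  rcases cs with _ | ⟨c, cs⟩
  · exact Nat.zero_le _
  · exact (s.le_head hs List.mem_cons_self).2 _ v hv

theorem St.pairOK_sound (s : St L cs P rest) (h : Prof N L) : pairOK cs rest.length = true := by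
  rw [pairOK, allR_eq, List.all_eq_true]
  intro x hx
  obtain ⟨y, hy, hy1⟩ := s.exists_mem hx
  obtain ⟨r, hr, hrd, hq⟩ := h.pair hy
  rw [hy1] at hrd hq
  rw [anyR_eq, List.any_eq_true]
  refine ⟨r, (s.good x hx r).2 ⟨hr, hrd⟩, ?_⟩
  rw [allR_eq, List.all_eq_true]
  intro q hqm
  obtain ⟨hq1, hq2⟩ := (s.good x hx q).1 hqm
  rw [Bool.or_eq_true]
  by_cases e : q = r
  · exact Or.inl (beq_iff.2 e)
  · refine Or.inr (ble_true ?_)
    have h3 := hq q hq1 hq2 e
    rw [s.count_cnt] at h3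
    have := List.countP_le_length (p := fun v => v % (r * q) == 0) (l := rest)
    show 3 ≤ cnt cs (r * q) + rest.length
    omega

theorem St.primeOK_sound (s : St L cs P rest) (h : Prof N L) (hs : Sorted L) :
    primeOK cs rest.length = true := by
  rw [primeOK, allR_eq, List.all_eq_true]
  intro x hx
  rw [Bool.or_eq_true, Bool.not_eq_true']
  by_cases hb : isP x = true
  swap
  · exact Or.inl (Bool.eq_false_iff.2 hb)
  refine Or.inr ?_
  have hp := s.isP_prime hx hb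
  obtain ⟨y, hy, hy1⟩ := s.exists_mem hx
  obtain ⟨-, -, -, e, he, hm, hd⟩ := h.prime_cn hy (hy1 ▸ hp)
  rw [hy1] at hm
  set m := L.countP (fun z => z.1 == x.1) with hmdef
  have hm0 : 0 < m := List.countP_pos_iff.2 ⟨y, hy, by simpa using hy1⟩
  have hsplit : m = cntR (fun z : CP => Nat.beq z.1 x.1) cs + rest.countP (fun v => v == x.1) := by
    rw [hmdef, s.count (fun v => v == x.1), cntR_eq]
    congr 1
    exact List.countP_congr fun z _ => by simp only [beq_iff_eq]; exact beq_iff.symm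
  have he' : (x.1 - 1) / m = e := by rw [← hm, Nat.mul_div_cancel_left _ hm0]
  have hdvd : (x.1 - 1) % m = 0 := by rw [← hm]; exact Nat.mul_mod_right _ _
  have hpe : ¬ e ∣ x.1 := fun hh => by
    rcases (Nat.dvd_prime hp).1 hh with h1 | h1
    · omega
    · have := Nat.le_mul_of_pos_left e hm0
      rw [hm] at this
      have := hp.two_le
      omega
  have horders := h.count_orders he hd
  rw [s.count_cnt] at horders
  have hle1 : rest.countP (fun v => v % e == 0) + rest.countP (fun v => v == x.1) ≤ rest.length := by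
    rw [List.length_eq_countP_add_countP (fun v => v == x.1) (l := rest), add_comm]
    refine Nat.add_le_add_left (List.countP_mono_left fun v _ hv => ?_) _
    simp only [beq_iff_eq] at hv
    simpa using fun e1 : v = x.1 => hpe (e1 ▸ Nat.dvd_of_mod_eq_zero hv)
  have hm1 : rest.countP (fun v => v == x.1) ≤ bif (cs.headD x).1 == x.1 then rest.length else 0 := by
    by_cases e1 : (cs.headD x).1 = x.1
    · rw [show ((cs.headD x).1 == x.1) = true by simpa using e1, cond_true]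
      exact List.countP_le_length
    · rw [show ((cs.headD x).1 == x.1) = false by simpa using e1, cond_false, Nat.le_zero, List.countP_eq_zero]
      intro v hv e2
      simp only [beq_iff_eq] at e2
      have := (s.le_head hs hx).1 x
      have := (s.le_head hs hx).2 x v hv
      omega
  simp only [List.any_eq_true]
  refine ⟨m, ?_, ?_⟩
  · rw [List.mem_range'_1]
    cases hc : ((cs.headD x).1 == x.1) <;> rw [hc] at hm1 <;> simp only [cond_true, cond_false] at hm1 ⊢ <;> omega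
  · simp only [Bool.and_eq_true, beq_iff_eq, Nat.ble_eq]
    rw [he']
    refine ⟨⟨hdvd, he⟩, ?_⟩
    omega

theorem St.okPre_sound (s : St L cs P rest) (h : Prof N L) {v : ℕ} {ps : List ℕ} {r : List ℕ}
    (hv : rest = v :: r) (hg : Good (v, ps)) : okPre cs (v, ps) = true := by
  subst hv
  have s' : St L ((v, ps) :: cs) P r :=
    ⟨by rw [s.eqn]; simp, List.forall_mem_cons.2 ⟨hg, s.good⟩, s.prm⟩
  obtain ⟨x, hx, hx1⟩ := s.exists_rest (List.mem_cons_self (a := v) (l := r))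
  rw [okPre, Bool.and_eq_true, allR_eq, List.all_eq_true]
  refine ⟨fun y hy => ?_, ?_⟩
  · rw [Bool.or_eq_true, Bool.or_eq_true, Bool.not_eq_true', Bool.not_eq_true']
    by_cases hb : isP y = true
    swap
    · exact Or.inr (Bool.eq_false_iff.2 hb)
    obtain ⟨z, hz, hz1⟩ := s.exists_mem hy
    by_cases hd : y.1 ∣ v
    · refine Or.inl (Or.inr (beq_iff.2 ?_))
      have := (h.prime_cn hz (hz1 ▸ s.isP_prime hy hb)).2.2.1 x hx (by rw [hz1, hx1]; exact hd)
      show v = y.1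
      omega
    · exact Or.inl (Or.inl (Bool.eq_false_iff.2 fun e => hd (mod_beq.1 e)))
  · rw [Bool.or_eq_true, Bool.not_eq_true']
    by_cases hb : isP (v, ps) = true
    swap
    · exact Or.inl (Bool.eq_false_iff.2 hb)
    obtain ⟨-, -, hall, e, he, hm, -⟩ := h.prime_cn hx (hx1 ▸ s'.isP_prime List.mem_cons_self hb)
    rw [hx1] at hall hm
    refine Or.inr ?_
    rw [Bool.and_eq_true, allR_eq, List.all_eq_true]
    refine ⟨fun y hy => ?_, ?_⟩
    · rw [Bool.or_eq_true, Bool.not_eq_true']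
      obtain ⟨z, hz, hz1⟩ := s.exists_mem hy
      by_cases hd : v ∣ y.1
      · exact Or.inr (beq_iff.2 (hz1 ▸ hall z hz (hz1.symm ▸ hd)))
      · exact Or.inl (Bool.eq_false_iff.2 fun e => hd (mod_beq.1 e))
    · refine ble_true ?_
      show 2 * cntR (fun y : CP => Nat.beq y.1 v) cs + 3 ≤ v
      rw [cntR_eq]
      have h1 := s'.count (fun z => z == v)
      rw [List.countP_cons] at h1
      have h2 : cs.countP (fun y => Nat.beq y.1 v) = cs.countP (fun y => y.1 == v) :=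
        List.countP_congr fun z _ => by simp only [beq_iff_eq]; exact beq_iff
      simp only [beq_self_eq_true, ↓reduceIte] at h1
      have h3 : 2 * L.countP (fun y => y.1 == v) ≤ v - 1 := by
        rw [← hm, mul_comm (L.countP _) e]
        exact Nat.mul_le_mul_right _ he
      omega

theorem St.rules_sound (s : St L cs P rest) (h : Prof N L) (hs : Sorted L) {v : ℕ} {ps r : List ℕ}
    (hv : rest = v :: r) (hg : Good (v, ps)) : rules cs (v, ps) r.length = true := by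
  have s' : St L ((v, ps) :: cs) P r :=
    ⟨by rw [s.eqn, hv]; simp, List.forall_mem_cons.2 ⟨hg, s.good⟩, s.prm⟩
  rw [rules, s.okPre_sound h hv hg, s'.pairOK_sound h, s'.primeOK_sound h hs]
  rfl

theorem St.push (s : St L cs P rest) {v : ℕ} {r : List ℕ} (hv : rest = v :: r) (hpos : 0 < v) :
    St L ((v, factor P v) :: cs) (addPrimes P (factor P v)) r := by
  refine ⟨by rw [s.eqn, hv]; simp, List.forall_mem_cons.2 ⟨good_factor s.prm hpos, s.good⟩, fun q hq => ?_⟩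
  rcases List.mem_append.1 hq with h1 | h1
  · exact s.prm q h1
  · exact ((mem_factor s.prm hpos).1 (List.mem_filter.1 h1).1).1

end Cfsg.Agent.Fus.Ten
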