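import Cfsg.Agent.Lib.Fus.TenClasses.Prof
import Cfsg.Agent.Lib.Fus.NineClasses.Profile
import Cfsg.Agent.Lib.Block.SmallIndex

/-!
The profile of a simple group with ten classes.
-/

set_option autoImplicit false
set_option linter.style.haveILetI false
set_option linter.unusedSectionVars false

namespace Cfsg.Agent.Fus.Ten

open Cfsg Cfsg.Agent.Block Cfsg.Agent.Char Cfsg.Agent.Invol.M12Ord
open Cfsg.Agent.Invol.M23Ord (Sep conj_orderOf cn_dvd_pow)
open Cfsg.Agent.Fus.Nine (Cl Reps dat dvd_cn_self cn_dvd_of_commute_pow sq_dvd_cn exists_full once_facts invCount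
  solCount)

universe u

variable {G : Type u} [Group G] [Finite G]

/-- An element of the normalizer inducing a generator of the automorphisms induced on a subgroup of prime order. -/
theorem exists_norm {p : ℕ} [hp : Fact p.Prime] {x : G} (hx : orderOf x = p) :
    ∃ n : G, (Subgroup.centralizer ((Subgroup.zpowers x : Subgroup G) : Set G)).relIndex
      (Subgroup.normalizer ((Subgroup.zpowers x : Subgroup G) : Set G)) ∣ orderOf n := by
  set A := Subgroup.zpowers x
  have hA : Nat.card A = p := by rw [Nat.card_zpowers, hx]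
  haveI : IsCyclic A := isCyclic_of_prime_card hA
  haveI : IsCyclic (ZMod (Nat.card A))ˣ := by rw [hA]; infer_instance
  haveI : IsCyclic (MulAut A) := isCyclic_of_surjective (IsCyclic.mulAutMulEquiv A).symm
    (MulEquiv.surjective _)
  obtain ⟨g, hg⟩ := IsCyclic.exists_generator (α := A.normalizerMonoidHom.range)
  obtain ⟨n, hn⟩ := g.2
  have hcard : Nat.card A.normalizerMonoidHom.range =
      (Subgroup.centralizer (A : Set G)).relIndex (Subgroup.normalizer (A : Set G)) := by
    rw [Subgroup.relIndex, ← Subgroup.normalizerMonoidHom_ker, Subgroup.index_ker]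
  refine ⟨(n : G), ?_⟩
  rw [← hcard, ← orderOf_eq_card_of_forall_mem_zpowers hg, ← Subgroup.orderOf_coe g, ← hn, Subgroup.orderOf_coe n]
  exact orderOf_map_dvd _ n

/-- Two commuting powers of coprime exponents determine an element. -/
theorem eq_of_pow_eq_pow {a b : G} {m n : ℕ} (hc : m.Coprime n) (h1 : a ^ m = b ^ m) (h2 : a ^ n = b ^ n) :
    a = b := by
  have key : ∀ c : G, c = (c ^ m) ^ Nat.gcdA m n * (c ^ n) ^ Nat.gcdB m n := fun c => by
    rw [← zpow_natCast c m, ← zpow_natCast c n, ← zpow_mul, ← zpow_mul, ← zpow_add, ← Nat.gcd_eq_gcd_ab, hc.gcd_eq_one,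
      Nat.cast_one, zpow_one]
  rw [key a, key b, h1, h2]

/-- The centralizer of a power of prime order part inside the centralizer of the other part. -/
theorem psq_in {p : ℕ} [hp : Fact p.Prime] {x : G} {q k : ℕ} (hx : orderOf x = q * p ^ k) (hk : k ≠ 0)
    (hpq : ¬ p ∣ q) (hd : p * p ∣ cn (x ^ p ^ k)) : p * p ∣ cn x := by
  set z := x ^ p ^ k with hz
  set C := Subgroup.centralizer ({z} : Set G)
  have hu : x ^ q ∈ C := Subgroup.mem_centralizer_singleton_iff.2 (((Commute.refl x).pow_pow q (p ^ k)).eq)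
  have hq : q ≠ 0 := fun e => hpq (e ▸ dvd_zero p)
  have huo : orderOf (⟨x ^ q, hu⟩ : C) = p ^ k := by
    rw [Subgroup.orderOf_mk, orderOf_pow_of_dvd hq (hx ▸ dvd_mul_right q _), hx,
      Nat.mul_div_cancel_left _ (Nat.pos_of_ne_zero hq)]
  have hu1 : (⟨x ^ q, hu⟩ : C) ≠ 1 := fun e => by
    rw [e, orderOf_one] at huo
    exact (Nat.one_lt_pow hk hp.out.one_lt).ne huo
  have h : p * p ∣ Nat.card (Subgroup.centralizer ({⟨x ^ q, hu⟩} : Set C)) :=
    sq_dvd_cn (G := C) hd huo hu1
  rw [Nat.card_congr ((Subgroup.centralizer ({⟨x ^ q, hu⟩} : Set C)).equivMapOfInjective _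
    C.subtype_injective).toEquiv] at h
  refine h.trans (Subgroup.card_dvd_of_le ?_)
  rintro _ ⟨⟨y, hyC⟩, hy, rfl⟩
  rw [Subgroup.mem_centralizer_singleton_iff]
  have h1 : Commute y z := Subgroup.mem_centralizer_singleton_iff.1 hyC
  have h2 : Commute y (x ^ q) :=
    congrArg Subtype.val (Subgroup.mem_centralizer_singleton_iff.1 hy)
  have hc : Nat.Coprime (p ^ k) q := (hp.out.coprime_iff_not_dvd.2 hpq).pow_left k
  show y * x = x * y
  have e : y * x * y⁻¹ = x := by
    refine eq_of_pow_eq_pow hc ?_ ?_ <;> rw [conj_pow]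
    · rw [← hz, h1.eq, mul_inv_cancel_right]
    · rw [h2.eq, mul_inv_cancel_right]
  calc y * x = y * x * y⁻¹ * y := by group
    _ = x * y := by rw [e]

variable {R : List G}

theorem eq_of_isConj (hR : Reps R) {a b : G} (ha : a ∈ R) (hb : b ∈ R) (h : IsConj a b) : a = b := by
  suffices ∀ l : List G, l.Pairwise (fun x y => ¬ IsConj x y) → a ∈ l → b ∈ l → a = b from this R hR.sep ha hb
  intro l hl
  induction hl with
  | nil => simp
  | @cons x l hx _ ih =>
    intro ha hb
    rcases List.mem_cons.1 ha with rfl | ha' <;> rcases List.mem_cons.1 hb with rfl | hb'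
    · rfl
    · exact absurd h (hx b hb')
    · exact absurd h.symm (hx a ha')
    · exact ih ha' hb'

theorem conj_rep (hR : Reps R) {o : ℕ} {r : G} (hr : r ∈ R) (hro : orderOf r = o)
    (h1 : (R.map dat).countP (fun y => y.2 == o) = 1) {g : G} (hg : orderOf g = o) : IsConj r g := by
  have hg1 : g ≠ 1 := fun e => hR.ne_one r hr (orderOf_eq_one_iff.1 (by rw [hro, ← hg, e, orderOf_one]))
  obtain ⟨s, hs, hc⟩ := hR.cover g hg1
  suffices s = r by subst this; exact hc
  rw [List.countP_map, List.countP_eq_length_filter, List.length_eq_one_iff] at h1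
  obtain ⟨a, ha⟩ := h1
  have key : ∀ t ∈ R, orderOf t = o → t = a := fun t ht hto => by
    have : t ∈ R.filter ((fun y : Cl => y.2 == o) ∘ dat) := List.mem_filter.2 ⟨ht, by simpa [dat] using hto⟩
    rwa [ha, List.mem_singleton] at this
  rw [key s hs ((conj_orderOf hc).trans hg), key r hr hro]

/-- The classes over one class whose centralizer order is divisible exactly once by `p`. -/
theorem once_in (hR : Reps R) {p : ℕ} [hp : Fact p.Prime] {r : G} (hr : r ∈ R) (hd : p ∣ cn r)
    (hd2 : ¬ p * p ∣ cn r) (hpo : ¬ p ∣ orderOf r)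
    (h1 : (R.map dat).countP (fun y => y.2 == orderOf r) = 1) :
    (R.map dat).countP (fun y => y.2 == orderOf r * p) ≤ p - 1 := by
  classical
  set o := orderOf r with ho
  set C := Subgroup.centralizer ({r} : Set G)
  obtain ⟨T⟩ : Nonempty (Sylow p C) := inferInstance
  obtain ⟨m, hm⟩ : p ∣ Nat.card C := hd
  have hpm : ¬ p ∣ m := fun h => hd2 (show p * p ∣ Nat.card C from hm ▸ mul_dvd_mul_left p h)
  have hT : Nat.card (T : Subgroup C) = p := Invol.M11Ord.card_sylow_self hm hpm T
  haveI : IsCyclic (T : Subgroup C) := isCyclic_of_prime_card hT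
  obtain ⟨t, ht⟩ := IsCyclic.exists_generator (α := (T : Subgroup C))
  set F := R.filter ((fun y : Cl => y.2 == o * p) ∘ dat) with hF
  have key : ∀ s ∈ F, ∃ i ∈ Finset.Ico 1 p, ∃ u : G, IsConj s u ∧ u ^ p = r ∧ u ^ o = (((t ^ i : (T : Subgroup C)) : C) : G) := by
    intro s hs
    rw [hF, List.mem_filter] at hs
    have hso : orderOf s = o * p := by simpa [dat] using hs.2
    have hsp : orderOf (s ^ p) = o := by
      rw [orderOf_pow_of_dvd hp.out.ne_zero (hso ▸ dvd_mul_left p o), hso, Nat.mul_div_cancel _ hp.out.pos]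
    obtain ⟨c, hc⟩ := _root_.isConj_iff.1 (conj_rep hR hr ho.symm h1 hsp).symm
    set s' := c * s * c⁻¹ with hs'
    have hs'p : s' ^ p = r := by rw [hs', conj_pow, hc]
    have hs'C : s' ^ o ∈ C :=
      Subgroup.mem_centralizer_singleton_iff.2 (hs'p ▸ ((Commute.refl s').pow_pow o p).eq)
    have hs'o : orderOf s' = o * p := by rw [hs', ← MulAut.conj_apply, MulEquiv.orderOf_eq, hso]
    have hopos : 0 < o := orderOf_pos r
    have hwo : orderOf (⟨s' ^ o, hs'C⟩ : C) = p := by
      rw [Subgroup.orderOf_mk, orderOf_pow_of_dvd hopos.ne' (hs'o ▸ dvd_mul_right o p), hs'o,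
        Nat.mul_div_cancel_left _ hopos]
    obtain ⟨Q, hQ⟩ := (IsPGroup.of_card (n := 1) (by rw [Nat.card_zpowers, hwo, pow_one]) :
      IsPGroup p (Subgroup.zpowers (⟨s' ^ o, hs'C⟩ : C))).exists_le_sylow
    obtain ⟨d, hdq⟩ := MulAction.exists_smul_eq C Q T
    have hwT : d * ⟨s' ^ o, hs'C⟩ * d⁻¹ ∈ (T : Subgroup C) := by
      rw [← hdq, Sylow.coe_subgroup_smul]
      exact ⟨_, hQ (Subgroup.mem_zpowers _), rfl⟩
    obtain ⟨j, hj⟩ := (mem_powers_iff_mem_zpowers).2 (ht ⟨_, hwT⟩)
    have hto : orderOf t = p := by rw [orderOf_eq_card_of_forall_mem_zpowers ht, hT]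
    have hj' : t ^ (j % p) = ⟨_, hwT⟩ := by
      have e := pow_mod_orderOf t j
      rw [hto] at e
      rw [e]; exact hj
    refine ⟨j % p, Finset.mem_Ico.2 ⟨Nat.pos_of_ne_zero fun e => ?_, Nat.mod_lt _ hp.out.pos⟩,
      (d : G) * s' * (d : G)⁻¹, (_root_.isConj_iff.2 ⟨c, rfl⟩).trans (_root_.isConj_iff.2 ⟨d, rfl⟩), ?_, ?_⟩
    · rw [e, pow_zero] at hj'
      have h2 : d * ⟨s' ^ o, hs'C⟩ * d⁻¹ = 1 := (congrArg Subtype.val hj').symm
      rw [conj_eq_one_iff] at h2
      rw [h2, orderOf_one] at hwo
      exact hp.out.one_lt.ne hwo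
    · rw [conj_pow, hs'p, Subgroup.mem_centralizer_singleton_iff.1 d.2, mul_inv_cancel_right]
    · rw [hj', conj_pow]
      rfl
  choose! f hf u hu1 hu2 hu3 using key
  have hnd : (F.map f).Nodup := by
    have hRnd : R.Nodup := List.Pairwise.imp (R := fun a b => ¬ IsConj a b) (fun {a b} h (e : a = b) => h (e ▸ IsConj.refl a)) hR.sep
    refine List.Nodup.map_on (fun a ha b hb e => ?_) (hRnd.filter _)
    refine eq_of_isConj hR (List.mem_filter.1 ha).1 (List.mem_filter.1 hb).1 ?_
    have hab : u a = u b := eq_of_pow_eq_pow (hp.out.coprime_iff_not_dvd.2 hpo) ((hu2 a ha).trans (hu2 b hb).symm)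
      ((hu3 a ha).trans (by rw [e, hu3 b hb]))
    exact (hab ▸ hu1 a ha).trans (hu1 b hb).symm
  have hcard : (F.map f).toFinset.card ≤ (Finset.Ico 1 p).card := Finset.card_le_card fun i hi => by
    obtain ⟨s, hs, rfl⟩ := List.mem_map.1 (List.mem_toFinset.1 hi)
    exact hf s hs
  rw [List.toFinset_card_of_nodup hnd, List.length_map, Nat.card_Ico] at hcard
  rw [List.countP_map, List.countP_eq_length_filter]
  exact hcard

variable [IsSimpleGroup G]

theorem prof_of_reps (hna : ¬ IsMulCommutative G) (h10 : Nat.card (ConjClasses G) = 10) (hR : Reps R) :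
    Prof (Nat.card G) (R.map dat) := by
  classical
  haveI := Fintype.ofFinite G
  have hcenter : Subgroup.center G = ⊥ :=
    (inferInstance : (Subgroup.center G).Normal).eq_bot_or_eq_top.resolve_right fun e =>
      hna ⟨⟨fun a b => Subgroup.mem_center_iff.1 (e ▸ Subgroup.mem_top b) a⟩⟩
  have four : 4 ∣ Nat.card G := by
    have h2 := Invol.ProperCore.even_card hna
    haveI : Fact (Nat.Prime 2) := ⟨Nat.prime_two⟩
    by_contra h4
    obtain ⟨z, hz, -⟩ := exists_full (p := 2) h2
    obtain ⟨-, e, np, he, hep, -⟩ := once_facts hna h2 h4 hz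
    have := Nat.le_of_dvd (by norm_num) hep
    omega
  refine
    { len := ?len, sum := ?sum, basic := ?basic, four := four, inv := ?inv, full := ?full, psq := ?psq,
      once := ?once, pow := ?pow, mul := ?mul, psqIn := ?psqin, onceIn := ?oncein, index := ?index, inv_le := ?invle, frob := ?frob }
  case len => rw [List.length_map]; have := hR.len; omega
  case sum =>
    have h := hR.count fun _ => true
    simp only [cond_true] at h
    rw [← h]
    simp [Set.ncard_univ]
  case basic =>
    rintro _ hx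
    obtain ⟨r, hr, rfl⟩ := List.mem_map.1 hx
    refine ⟨cn_dvd_card r, dvd_cn_self r, ?_, lt_of_le_of_ne (Nat.le_of_dvd Nat.card_pos (cn_dvd_card r)) ?_⟩
    · have := orderOf_pos r
      have : orderOf r ≠ 1 := fun e => hR.ne_one r hr (orderOf_eq_one_iff.1 e)
      show 1 < orderOf r
      omega
    · intro e
      refine hR.ne_one r hr (Subgroup.mem_bot.1 (hcenter ▸ Subgroup.mem_center_iff.2 fun g => ?_))
      have : Subgroup.centralizer ({r} : Set G) = ⊤ := Subgroup.eq_top_of_card_eq _ e
      exact Subgroup.mem_centralizer_singleton_iff.1 (this ▸ Subgroup.mem_top g)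
  case inv =>
    rintro _ hx h2
    obtain ⟨r, hr, rfl⟩ := List.mem_map.1 hx
    haveI : Fact (Nat.Prime 2) := ⟨Nat.prime_two⟩
    exact sq_dvd_cn (p := 2) (k := 1) four (by rw [pow_one]; exact h2) (hR.ne_one r hr)
  case full =>
    intro p hp hd
    haveI := Fact.mk hp
    obtain ⟨z, hz, hzd⟩ := exists_full hd
    exact ⟨dat z, hR.mem_dat (ne_one_of_orderOf hz hp.ne_one), hz, hzd⟩
  case psq =>
    rintro p k hp hd _ hx hk
    obtain ⟨r, hr, rfl⟩ := List.mem_map.1 hx
    haveI := Fact.mk hp
    exact sq_dvd_cn hd hk (hR.ne_one r hr)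
  case once =>
    rintro p hp hd hd2 _ hx hx2
    obtain ⟨r, hr, rfl⟩ := List.mem_map.1 hx
    haveI := Fact.mk hp
    obtain ⟨hsame, e, np, he, hep, hN, hnp, hnp1, hcnt⟩ := once_facts hna hd hd2 hx2
    refine ⟨?_, e, np, he, ?_, hN, hnp, hnp1, ?_⟩
    · rintro _ hy
      obtain ⟨s, hs, rfl⟩ := List.mem_map.1 hy
      refine ⟨fun h => hsame s h, fun (h : p ∣ orderOf s) => ?_⟩
      have hpow : orderOf (s ^ (orderOf s / p)) = p := by
        rw [orderOf_pow_of_dvd (Nat.div_pos (Nat.le_of_dvd (orderOf_pos s) h) hp.pos).ne'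
          (Nat.div_dvd_of_dvd h), Nat.div_div_self h (orderOf_pos s).ne']
      exact (cn_dvd_pow s _).trans (dvd_of_eq (hsame _ hpow))
    · have h := hR.count fun o => o == p
      have e1 : {g : G | (orderOf g == p) = true} = {g : G | orderOf g = p} := by simp
      rw [e1, hcnt, show ((1 : ℕ) == p) = false by simpa using hp.ne_one.symm, cond_false, zero_add] at h
      have e2 : ((R.map dat).map fun x => bif x.2 == p then Nat.card G / x.1 else 0).sum =
          (R.map dat).countP (fun y => y.2 == p) * (Nat.card G / cn r) := by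
        clear h
        have hall : ∀ y ∈ R.map dat, y.2 = p → y.1 = cn r := fun y hy hy2 => by
          obtain ⟨s, -, rfl⟩ := List.mem_map.1 hy
          exact hsame s hy2
        generalize R.map dat = M at hall ⊢
        induction M with
        | nil => simp
        | cons y M ih =>
          rw [List.map_cons, List.sum_cons, List.countP_cons, ih fun z hz => hall z (by simp [hz])]
          by_cases hy2 : y.2 = p
          · simp [hy2, hall y (by simp) hy2]; ring
          · rw [show (y.2 == p) = false by simpa using hy2]; simp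
      rw [e2, ← hN, mul_assoc, Nat.mul_div_cancel_left _ (cn_pos r), ← mul_assoc] at h
      exact Nat.eq_of_mul_eq_mul_left (show 0 < np by
        rcases Nat.eq_zero_or_pos np with e0 | e0
        · rw [e0] at hnp; simp at hnp
        · exact e0) (by rw [h]; ring)
    · obtain ⟨m, hm⟩ := hd
      have hpm : ¬ p ∣ m := fun h => hd2 (hm ▸ mul_dvd_mul_left p h)
      obtain ⟨n, hn⟩ := exists_norm (show orderOf r = p from hx2)
      obtain ⟨P, hP⟩ := (IsPGroup.of_card (n := 1)
        (by rw [Nat.card_zpowers, show orderOf r = p from hx2, pow_one]) :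
        IsPGroup p (Subgroup.zpowers r)).exists_le_sylow
      have hPr : Subgroup.zpowers r = (P : Subgroup G) := Subgroup.eq_of_le_of_card_ge hP (by
        rw [OrdP.card_sylow_eq hm hpm P, Nat.card_zpowers, show orderOf r = p from hx2])
      have hnS : Nat.card (Sylow p G) = np := by
        have h1 := Invol.M11Ord.cnt_prime hm hpm
        rw [show Invol.M11Ord.cnt G p = {g : G | orderOf g = p}.ncard from (Nat.card_coe_set_eq _), hcnt] at h1
        exact (Nat.eq_of_mul_eq_mul_right (by have := hp.two_le; omega) h1).symm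
      have hNr : (Subgroup.normalizer ((Subgroup.zpowers r : Subgroup G) : Set G)).index = np := by
        rw [← hnS, hPr]; exact P.card_eq_index_normalizer.symm
      have he' : (Subgroup.centralizer ((Subgroup.zpowers r : Subgroup G) : Set G)).relIndex
          (Subgroup.normalizer ((Subgroup.zpowers r : Subgroup G) : Set G)) = e := by
        have h1 := Subgroup.relIndex_mul_index (Subgroup.centralizer_le_normalizer ((Subgroup.zpowers r : Subgroup G) : Set G))
        have h2 := Subgroup.card_mul_index (Subgroup.centralizer ((Subgroup.zpowers r : Subgroup G) : Set G))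
        rw [hNr] at h1
        have h3 : Nat.card (Subgroup.centralizer ((Subgroup.zpowers r : Subgroup G) : Set G)) = cn r := by
          rw [Subgroup.zpowers_eq_closure, Subgroup.centralizer_closure]
        rw [← h1, h3] at h2
        change cn r * e * np = Nat.card G at hN
        rw [← hN, mul_assoc] at h2
        exact Nat.eq_of_mul_eq_mul_right (Nat.pos_of_ne_zero fun e0 => by rw [e0] at hnp; simp at hnp)
          (Nat.eq_of_mul_eq_mul_left (cn_pos r) h2)
      rw [he'] at hn
      have hn1 : n ≠ 1 := fun e1 => by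
        rw [e1, orderOf_one, Nat.dvd_one] at hn
        omega
      exact ⟨dat n, hR.mem_dat hn1, hn⟩
  case psqin =>
    rintro _ hx p k q hp hk hq hpq
    obtain ⟨r, hr, rfl⟩ := List.mem_map.1 hx
    change orderOf r = q * p ^ k at hk
    haveI := Fact.mk hp
    rcases eq_or_ne k 0 with rfl | hk0
    · exact ⟨dat r, hx, by simpa [dat] using hk, dvd_rfl, id⟩
    have ho : orderOf (r ^ p ^ k) = q := by
      rw [orderOf_pow_of_dvd (pow_ne_zero k hp.ne_zero) (hk ▸ dvd_mul_left _ q), hk,
        Nat.mul_div_cancel _ (Nat.pow_pos hp.pos)]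
    exact ⟨dat (r ^ p ^ k), hR.mem_dat (fun e => hq (by rw [← ho, e, orderOf_one])), ho, cn_dvd_pow r _,
      psq_in hk hk0 hpq⟩
  case oncein =>
    rintro _ hx p hp hd hd2 hpo h1
    obtain ⟨r, hr, rfl⟩ := List.mem_map.1 hx
    haveI := Fact.mk hp
    exact once_in hR hr hd hd2 hpo h1
  case index =>
    rintro _ hx
    obtain ⟨r, hr, rfl⟩ := List.mem_map.1 hx
    have hne : Subgroup.centralizer ({r} : Set G) ≠ ⊤ := fun e => hR.ne_one r hr
      (Subgroup.mem_bot.1 (hcenter ▸ Subgroup.mem_center_iff.2 fun g =>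
        Subgroup.mem_centralizer_singleton_iff.1 (e ▸ Subgroup.mem_top g)))
    show 2 * Nat.card G ∣ (Nat.card G / cn r).factorial
    rw [show Nat.card G / cn r = (Subgroup.centralizer ({r} : Set G)).index from
      Nat.div_eq_of_eq_mul_left Nat.card_pos (Subgroup.index_mul_card _).symm]
    exact small_two_card_dvd hna _ hne
  case pow =>
    rintro _ hx p hp (hpd : _ ∣ _) (hne : _ ≠ _)
    obtain ⟨r, hr, rfl⟩ := List.mem_map.1 hx
    change p ∣ orderOf r at hpd
    change orderOf r ≠ p at hne
    have ho : orderOf (r ^ p) = orderOf r / p := orderOf_pow_of_dvd hp.ne_zero hpd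
    have h1 : r ^ p ≠ 1 := fun e => hne (((Nat.dvd_prime hp).1 (orderOf_dvd_of_pow_eq_one e)).resolve_left
      fun e1 => hR.ne_one r hr (orderOf_eq_one_iff.1 e1))
    exact ⟨dat (r ^ p), hR.mem_dat h1, ho, cn_dvd_pow r p⟩
  case mul =>
    rintro _ hx p hp hpd hnd
    obtain ⟨r, hr, rfl⟩ := List.mem_map.1 hx
    change p ∣ cn r at hpd
    change ¬ p ∣ orderOf r at hnd
    haveI := Fact.mk hp
    obtain ⟨⟨z, hzc⟩, hzo⟩ := exists_prime_orderOf_dvd_card' (G := Subgroup.centralizer ({r} : Set G)) p hpd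
    rw [Subgroup.orderOf_mk] at hzo
    have hc : Commute r z := (Subgroup.mem_centralizer_singleton_iff.1 hzc).symm
    have hco : (orderOf r).Coprime (orderOf z) := by
      rw [hzo]; exact (hp.coprime_iff_not_dvd.2 hnd).symm
    have ho : orderOf (r * z) = orderOf r * p := by rw [hc.orderOf_mul_eq_mul_orderOf_of_coprime hco, hzo]
    have h1 : r * z ≠ 1 := fun e => by
      rw [e, orderOf_one] at ho
      nlinarith [orderOf_pos r, hp.two_le]
    obtain ⟨j, hj⟩ := exists_pow_eq_self_of_coprime (x := r) (n := p) (hp.coprime_iff_not_dvd.2 hnd)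
    have hw : ((r * z) ^ p) ^ j = r := by
      rw [hc.mul_pow, orderOf_dvd_iff_pow_eq_one.1 (dvd_of_eq hzo), mul_one, hj]
    exact ⟨dat (r * z), hR.mem_dat h1, ho, cn_dvd_of_commute_pow hw⟩
  case invle =>
    have h := hR.count fun o => 2 % o == 0
    have hinv : ((R.map dat).map fun x => bif 2 % x.2 == 0 then Nat.card G / x.1 else 0).sum =
        invCount (Nat.card G) (R.map dat) := by
      refine congrArg List.sum (List.map_congr_left fun x hx => ?_)
      obtain ⟨r, hr, rfl⟩ := List.mem_map.1 hx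
      have h1 : orderOf r ≠ 1 := fun e => hR.ne_one r hr (orderOf_eq_one_iff.1 e)
      have h0 := orderOf_pos r
      congr 1
      rw [Bool.eq_iff_iff, beq_iff_eq, beq_iff_eq]
      constructor
      · intro e
        exact ((Nat.dvd_prime Nat.prime_two).1 (Nat.dvd_of_mod_eq_zero e)).resolve_left h1
      · intro e; rw [e]
    have hset : {g : G | (2 % orderOf g == 0) = true} = {g : G | g * g = 1} := by
      ext g
      simp only [Set.mem_ofPred_eq, beq_iff_eq]
      rw [← Nat.dvd_iff_mod_eq_zero, orderOf_dvd_iff_pow_eq_one, sq]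
    rw [hset, hinv, show ((2 % 1 : ℕ) == 0) = true from rfl, cond_true] at h
    have hs := sum_ind (G := G)
    have hbound : ({g : G | g * g = 1}.ncard : ℝ) ≤ ∑ χ : IrrCharacter G, (dg χ : ℝ) := by
      have := congrArg (fun z : ℂ => ‖z‖) hs
      simp only [Complex.norm_natCast] at this
      rw [← this]
      refine (norm_sum_le _ _).trans (Finset.sum_le_sum fun χ _ => ?_)
      rw [norm_mul, Complex.norm_natCast]
      refine mul_le_of_le_one_right (Nat.cast_nonneg _) ?_
      rcases FS.ind_eq χ with ⟨e, -⟩ | ⟨e | e, -⟩ <;> simp [e]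
    have hb : {g : G | g * g = 1}.ncard ≤ ∑ χ : IrrCharacter G, dg χ := by exact_mod_cast hbound
    have hcs := sq_sum_le_card_mul_sum_sq (s := (Finset.univ : Finset (IrrCharacter G))) (f := fun χ => dg χ)
    have hsq : ∑ χ : IrrCharacter G, dg χ ^ 2 = Nat.card G := by
      apply Nat.cast_injective (R := ℂ)
      push_cast
      rw [← sum_degree_sq (G := G)]
      exact Finset.sum_congr rfl fun χ _ => by rw [value_one]
    rw [hsq, Finset.card_univ, ← Nat.card_eq_fintype_card, card_irrCharacter, h10] at hcs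
    rw [add_comm (invCount _ _), ← h, ← sq]
    exact (Nat.pow_le_pow_left hb 2).trans hcs
  case frob =>
    intro d hd
    have h := hR.count fun o => d % o == 0
    have hset : {g : G | (d % orderOf g == 0) = true} = {g : G | g ^ d = 1} := by
      ext g
      simp only [Set.mem_ofPred_eq, beq_iff_eq]
      rw [← Nat.dvd_iff_mod_eq_zero, orderOf_dvd_iff_pow_eq_one]
    rw [hset, show (d % 1 == 0) = true by simp [Nat.mod_one], cond_true] at h
    rw [solCount, ← h, ← Nat.card_coe_set_eq]
    exact Grp.PowCount.dvd_card_sol _ G rfl d hd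

end Cfsg.Agent.Fus.Ten
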