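import Cfsg.Agent.Lib.Fus.NineClasses.Search

/-!
The finite search for the class equations of simple groups with ten classes: definitions.
-/

set_option autoImplicit false

namespace Cfsg.Agent.Fus.Ten

open Cfsg.Agent.Fus.Nine (Cl forceL forceLL primeB strip ppow chkPrime chkPair solCount invCount chkFrob)

/-- The product of the primes below 467. -/
def primorial : ℕ :=
  4677492136955425281519937426128454234685227725149365904986290181439985622385431811441388070759331722463653363435049401912021447346969831994694700863301814601935485044229150510387831958439379310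

/-- A faster primality test. -/
def primeF (p : ℕ) : Bool :=
  bif Nat.blt p 467 || Nat.ble 218089 p then primeB p else Nat.gcd p primorial == 1

/-- Continue with the value of a number. -/
noncomputable def force (n : ℕ) (k : ℕ → Bool) : Bool :=
  Nat.rec (motive := fun _ => Bool) (k 0) (fun m _ => k (Nat.succ m)) n

/-- `List.all` by the recursor. -/
noncomputable def allR {α : Type} (f : α → Bool) (l : List α) : Bool :=
  List.rec (motive := fun _ => Bool) true (fun x _ ih => f x && ih) l

/-- `List.any` by the recursor. -/
noncomputable def anyR {α : Type} (f : α → Bool) (l : List α) : Bool :=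
  List.rec (motive := fun _ => Bool) false (fun x _ ih => f x || ih) l

/-- `List.countP` by the recursor. -/
noncomputable def cntR {α : Type} (f : α → Bool) (l : List α) : ℕ :=
  List.rec (motive := fun _ => ℕ) 0 (fun x _ ih => bif f x then Nat.add ih 1 else ih) l

/-- All numbers of an interval, by the recursor. -/
noncomputable def loopR (f : ℕ → Bool) (s n : ℕ) : Bool :=
  Nat.rec (motive := fun _ => Bool) true (fun i ih => f (Nat.add s i) && ih) n

/-- Remove all the primes of a list. -/
noncomputable def stripAll (P : List ℕ) (n : ℕ) : ℕ :=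
  List.rec (motive := fun _ => ℕ → ℕ) (fun n => n)
    (fun q _ ih n => ih (bif Nat.beq (Nat.mod n q) 0 then strip q 64 n else n)) P n

/-- The prime factors by trial division, in full. -/
def pfacT : ℕ → ℕ → ℕ → List ℕ
  | 0, _, _ => []
  | f + 1, d, n => bif Nat.blt n (d * d) then (bif Nat.blt 1 n then [n] else [])
      else bif Nat.beq (Nat.mod n d) 0 then d :: pfacT f (d + 1) (strip d n n) else pfacT f (d + 1) n

/-- The primes dividing a number, a list of some of them being known. -/
noncomputable def factor (P : List ℕ) (v : ℕ) : List ℕ :=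
  List.rec (motive := fun _ => List ℕ)
    (let w := stripAll P v; bif Nat.beq w 1 then [] else pfacT (v + 1) 2 w)
    (fun q _ ih => bif Nat.beq (Nat.mod v q) 0 then q :: ih else ih) P

/-- Continue with the powers of `q` dividing `l`. -/
noncomputable def forPow (q l : ℕ) (f : ℕ → Bool) (n : ℕ) : ℕ → Bool :=
  Nat.rec (motive := fun _ => ℕ → Bool) (fun _ => false)
    (fun _ ih cur => force cur fun cur =>
      f cur && bif Nat.beq (Nat.mod l (Nat.mul cur q)) 0 then ih (Nat.mul cur q) else true) n

/-- All divisors of a number supported on a list of primes. -/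
noncomputable def forDiv (P : List ℕ) (l : ℕ) (f : ℕ → Bool) : Bool :=
  List.rec (motive := fun _ => ℕ → Bool) f
    (fun q _ ih cur => forPow q l (fun x => ih (Nat.mul cur x)) 64 1) P 1

/-- The powers of `q` up to the full one dividing `l`. -/
def powList (q l : ℕ) : ℕ → ℕ → List ℕ
  | 0, cur => [cur]
  | f + 1, cur => bif l % (cur * q) == 0 then cur :: powList q l f (cur * q) else [cur]

/-- The divisors of a number supported on a list of primes. -/
def divList : List ℕ → ℕ → List ℕ
  | [], _ => [1]
  | q :: P, l => (powList q l l 1).flatMap fun x => (divList P l).map (x * ·)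

/-- A centralizer order with its primes. -/
abbrev CP := ℕ × List ℕ

/-- A centralizer order that is prime. -/
noncomputable def isP (x : CP) : Bool :=
  match x.2 with
  | [q] => Nat.beq q x.1
  | _ => false

/-- May the class `x` join the others? -/
noncomputable def okPre (cs : List CP) (x : CP) : Bool :=
  allR (fun y => !Nat.beq (Nat.mod x.1 y.1) 0 || Nat.beq x.1 y.1 || !isP y) cs &&
    (!isP x || (allR (fun y => !Nat.beq (Nat.mod y.1 x.1) 0 || Nat.beq y.1 x.1) cs &&
      Nat.ble (Nat.add (Nat.mul 2 (cntR (fun y => Nat.beq y.1 x.1) cs)) 3) x.1))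

/-- The number of classes with centralizer order divisible by `d`. -/
noncomputable def cnt (cs : List CP) (d : ℕ) : ℕ := cntR (fun y => Nat.beq (Nat.mod y.1 d) 0) cs

/-- Three classes for every pair of commuting primes. -/
noncomputable def pairOK (cs : List CP) (rem : ℕ) : Bool :=
  allR (fun x => anyR (fun r =>
    allR (fun q => Nat.beq q r || Nat.ble 3 (Nat.add (cnt cs (Nat.mul r q)) rem)) x.2) x.2) cs

/-- The number of proper divisors of `e` larger than one, and `e`. -/
def numOrders : ℕ → ℕ → ℕ → ℕ
  | 0, _, _ => 0
  | f + 1, d, e => bif Nat.blt e (d * d) then 0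
      else bif e % d == 0 then (bif e / d == d then 1 else 2) + numOrders f (d + 1) e
      else numOrders f (d + 1) e

/-- The normalizer of a self-centralizing Sylow group needs element orders. -/
noncomputable def primeOK (cs : List CP) (rem : ℕ) : Bool :=
  allR (fun x => !isP x ||
    let m₀ := cntR (fun y => Nat.beq y.1 x.1) cs
    let m₁ := bif (cs.headD x).1 == x.1 then m₀ + rem else m₀
    (List.range' m₀ (m₁ + 1 - m₀)).any fun m =>
      (x.1 - 1) % m == 0 && Nat.ble 2 ((x.1 - 1) / m) &&
        Nat.ble (numOrders ((x.1 - 1) / m) 2 ((x.1 - 1) / m) + 1)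
          (cnt cs ((x.1 - 1) / m) + (rem - (m - m₀)))) cs

/-- All the tests of a partial list. -/
noncomputable def rules (cs : List CP) (x : CP) (rem : ℕ) : Bool :=
  okPre cs x && pairOK (x :: cs) rem && primeOK (x :: cs) rem

/-- A left fold by the recursor. -/
noncomputable def foldR {α : Type} (f : ℕ → α → ℕ) (l : List α) (z : ℕ) : ℕ :=
  List.rec (motive := fun _ => ℕ → ℕ) (fun z => z) (fun x _ ih z => ih (f z x)) l z

/-- A divisor of the next centralizer order forced by the pairs. -/
noncomputable def forcedPair (cs : List CP) (rem : ℕ) : ℕ :=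
  foldR (fun D x => match x.2 with
    | [] => D
    | [_] => D
    | _ :: _ :: _ =>
      let g := foldR (fun g r => bif allR (fun q => Nat.beq q r || Nat.ble 3 (Nat.add (cnt cs (Nat.mul r q)) rem)) x.2 then
        Nat.gcd g (foldR (fun f q => bif Nat.beq q r || !Nat.beq (Nat.add (cnt cs (Nat.mul r q)) rem) 3 then f
          else Nat.lcm f (Nat.mul r q)) x.2 1)
        else g) x.2 0
      bif Nat.beq g 0 then D else Nat.lcm D g) cs 1

/-- A divisor of the next centralizer order forced by the normalizers of the self-centralizing Sylow groups. -/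
noncomputable def forcedPrime (cs : List CP) (rem : ℕ) : ℕ :=
  foldR (fun D x => bif !isP x || Nat.beq (cs.headD x).1 x.1 then D else
    let e := Nat.div (Nat.sub x.1 1) (cntR (fun y => Nat.beq y.1 x.1) cs)
    bif Nat.beq (Nat.add (cnt cs e) rem) (numOrders e 2 e + 1) then Nat.lcm D e else D) cs 1

/-- The quick test of the last but one centralizer order. -/
noncomputable def quick (top l lpow v : ℕ) : Bool :=
  bif Nat.beq (Nat.gcd v l) 1 then
    Nat.ble v (Nat.add (Nat.mul 2 top) 1) || Nat.ble 218089 v ||
      force (Nat.gcd v primorial) fun g2 => !Nat.beq g2 1 && Nat.beq (Nat.mod (Nat.pow g2 18) v) 0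
  else Nat.ble 4294967296 v || Nat.beq (Nat.mod lpow v) 0

/-- Continue with the value of a centralizer order and its primes. -/
noncomputable def forceCP (P : List ℕ) (v : ℕ) (k : CP → Bool) : Bool := forceL (factor P v) fun ps => k (v, ps)

/-- The union of two lists. -/
def addPrimes (P ps : List ℕ) : List ℕ := P ++ ps.filter fun q => !P.contains q

/-- The tests of a full assignment at the powers inside a centralizer. -/
noncomputable def chkInner (N : ℕ) (P : List ℕ) (L : List Cl) (x : Cl) : Bool :=
  P.all fun p => !primeF p ||
    ((x.2 % p != 0 || force (strip p 64 x.2) fun q => q == 1 || q % p == 0 || x.2 / q != ppow p 64 (x.2 / q) ||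
        x.2 % q != 0 || L.any fun y => y.2 == q && y.1 % x.1 == 0 && (y.1 % (p * p) != 0 || x.1 % (p * p) == 0)) &&
      (x.1 % p != 0 || x.1 % (p * p) == 0 || x.2 % p == 0 || N % p != 0 ||
        L.countP (fun y => y.2 == x.2) != 1 || Nat.ble (L.countP fun y => y.2 == x.2 * p) (p - 1)))

/-- The tests of a full assignment. -/
noncomputable def chk (N : ℕ) (P : List ℕ) (L : List Cl) : Bool :=
  (L.all fun x => x.2 != 2 || x.1 % 4 == 0) &&
    (P.all fun p => !primeF p || N % p != 0 || chkPrime N L p) &&
    (P.all fun p => !primeF p || L.all (chkPair L p)) &&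
    L.all (chkInner N P L) &&
    Nat.ble ((invCount N L + 1) * (invCount N L + 1)) (10 * N) &&
    (P.all fun p => !primeF p || chkFrob N L p 64 p)

/-- Can there still be a class with a given element order? -/
def canHave (A : List Cl) (R : List (ℕ × List ℕ)) (f : ℕ → Bool) (q : ℕ) : Bool :=
  A.any (fun y => y.2 == q && f y.1) || R.any fun y => f y.1 && y.2.contains q

/-- The tests of a partial assignment. -/
def partOK (N : ℕ) (P : List ℕ) (A : List Cl) (R : List (ℕ × List ℕ)) : Bool :=
  P.all fun p => !primeF p || N % p != 0 ||
    (canHave A R (fun c => N / c % p != 0) p &&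
      A.all fun x =>
        (x.2 % p != 0 || x.2 == p || canHave A R (fun c => c % x.1 == 0) (x.2 / p)) &&
          (x.1 % p != 0 || x.2 % p == 0 || canHave A R (fun c => x.1 % c == 0) (x.2 * p)) &&
          (x.2 != p || N % (p * p) == 0 ||
            A.all fun y => (y.2 != p || y.1 == x.1) && (y.2 % p != 0 || x.1 % y.1 == 0)))

/-- The assignments of element orders, from the largest centralizer down. -/
def asg (part : List Cl → List (ℕ × List ℕ) → Bool) (leaf : List Cl → Bool) :
    List (ℕ × List ℕ) → List Cl → Bool
  | [], A => leaf A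
  | x :: R, A => !part A (x :: R) || x.2.all fun o =>
      (match A with | [] => false | y :: _ => y.1 == x.1 && Nat.blt y.2 o) || asg part leaf R ((x.1, o) :: A)

/-- Can a class have element order `d`? -/
def okOpt (N : ℕ) (P : List ℕ) (others : List ℕ) (c d : ℕ) : Bool :=
  (d != 2 || c % 4 == 0) &&
    P.all fun p => !primeF p ||
      ((d % p != 0 || d == p || others.any fun a => a % c == 0 && a % (d / p) == 0) &&
        (c % p != 0 || d % p == 0 || others.any fun a => c % a == 0 && a % (d * p) == 0) &&
        (ppow p 64 d != d || N % (p * p) != 0 || c % (p * p) == 0))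

/-- The possible element orders of the classes. -/
noncomputable def options (A : ℕ → ℕ → Bool) (N : ℕ) (P : List ℕ) (cs : List CP) : List (ℕ × List ℕ) :=
  cs.map fun x => (x.1, (divList x.2 x.1).filter fun d =>
    Nat.blt 1 d && A x.1 d && okOpt N P ((cs.map Prod.fst).erase x.1) x.1 d)

/-- The cheap tests of the centralizer orders. -/
def gate (N : ℕ) (cs : List ℕ) : Bool :=
  N % 4 == 0 && cs.all (fun c => N % c == 0 && Nat.blt c N) &&
    cs.any (fun c => (N / c) % 2 != 0 && Nat.ble N (10 * (c * c))) &&
    cs.all fun c => Nat.blt 16 (N / c) || (N / c).factorial % (2 * N) == 0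

/-- The tests of the centralizer orders at the primes. -/
def gateP (N : ℕ) (cs : List ℕ) (p : ℕ) : Bool :=
  !primeF p || N % p != 0 ||
    (cs.any (fun c => c % p == 0 && (N / c) % p != 0) &&
      (N % (p * p) == 0 || cs.any fun c => c % p == 0 &&
        (List.range' 1 (cs.countP (· == c))).any fun m => (p - 1) % m == 0 && Nat.ble 2 ((p - 1) / m) &&
          N % (c * ((p - 1) / m)) == 0 && N / (c * ((p - 1) / m)) % p == 1 && N / (c * ((p - 1) / m)) != 1))

/-- Every assignment on these centralizer orders is excluded or exceptional; the largest comes first. -/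
noncomputable def phase2 (A : ℕ → ℕ → Bool) (exc : ℕ → List Cl → Bool) (N : ℕ) (P : List ℕ) (cs : List CP) : Bool :=
  !gate N (cs.map Prod.fst) || !(cs.all fun x => N % (x.1 * x.1) != 0 || !isP x) ||
    !P.all (gateP N (cs.map Prod.fst)) ||
      forceLL (options A N P cs) fun O => asg (partOK N P) (fun L => !chk N P L || exc N L) O []

/-- One candidate size for the largest class. -/
noncomputable def tryX (exc : ℕ → List Cl → Bool) (T : ℕ) (cs : List CP) (P : List ℕ) (a l last X : ℕ) : Bool :=
  !Nat.beq (Nat.mod (Nat.add X 1) a) 0 ||
    force (Nat.mul l (Nat.div (Nat.add X 1) a)) fun N => Nat.blt N T || !Nat.beq (Nat.mod N 4) 0 ||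
      force (Nat.div N X) fun C => Nat.ble N C || Nat.blt C last ||
        !gate N (C :: cs.map Prod.fst) || forceCP P C fun x =>
          !rules cs x 0 || forceL (addPrimes P x.2) fun P' => phase2 (fun _ _ => true) exc N P' (x :: cs)

/-- The bound for the next centralizer order. -/
def upper (T n a l : ℕ) : ℕ :=
  bif Nat.blt l (a * T) then min ((n + 3) * l / a) ((n + 2) * l * T / (a * T - l)) else (n + 3) * l / a

/-- The generic search over nondecreasing centralizer orders. -/
noncomputable def search (exc : ℕ → List Cl → Bool) (sel : List CP → Bool) (T : ℕ) : ℕ → List CP → List ℕ → ℕ → ℕ → ℕ → Bool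
  | 0, cs, P, _, a, l => force (cs.headD (0, [])).1 fun last => forDiv P l (fun X => tryX exc T cs P a l last X)
  | n + 1, cs, P, lo, a, l =>
    (Nat.beq n 2 && !sel cs) || force (upper T n a l) fun hi => force (Nat.lcm (forcedPair cs (n + 2)) (forcedPrime cs (n + 2))) fun D =>
      force (cs.headD (0, [])).1 fun top => force (bif n == 0 then l ^ 32 else 0) fun lpow =>
        force ((lo + D - 1) / D) fun j₀ => loopR (fun j =>
          Nat.ble (Nat.mul (Nat.mul j D) a) l || (Nat.beq n 0 && !quick top l lpow (Nat.mul j D)) ||
            force (Nat.mul j D) fun v => forceCP P v fun x =>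
            !rules cs x (n + 1) || forceL (addPrimes P x.2) fun P' =>
              force (Nat.lcm l v) fun l' => force (a * (l' / l) - l' / v) fun a' =>
                search exc sel T n (x :: cs) P' v a' l') j₀ (hi / D + 1 - j₀)

/-- The part of the generic search with a given index. -/
noncomputable def partSel (i : ℕ) (cs : List CP) : Bool :=
  Nat.beq (Nat.mod (foldR (fun z x => Nat.add (Nat.mul z 3) x.1) cs 0) 14) i

/-- The search for a fixed order. -/
noncomputable def fixedN (A : ℕ → ℕ → Bool) (exc : ℕ → List Cl → Bool) (N : ℕ) (P : List ℕ) :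
    ℕ → List CP → List ℕ → ℕ → Bool
  | 0, cs, _, s => s != 0 || phase2 A exc N P cs
  | r + 1, cs, D, s => go (fun c D' t => forceCP P c fun x =>
      !rules cs x r || fixedN A exc N P r (x :: cs) D' t) (r + 1) s D
where
  /-- Choose the next divisor. -/
  go (k : ℕ → List ℕ → ℕ → Bool) (r s : ℕ) : List ℕ → Bool
    | [] => true
    | c :: D => force (N / c) fun v =>
        Nat.blt (r * v) s || ((Nat.blt s v || force (s - v) fun t => k c (c :: D) t) && go k r s D)

/-- The profiles left over by the generic search. -/
def excG (N : ℕ) (L : List Cl) : Bool :=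
  N == 7920 || ((N == 20160 || N == 29120 || N == 32256) &&
    L.all (fun x => [2, 3, 4, 5, 7, 8, 9, 13].contains x.2) && (N != 29120 || L.any fun x => x.1 == 8))

/-- Nothing is left over. -/
def excNone (_ : ℕ) (_ : List Cl) : Bool := false

/-- The possible pairs for the smallest groups. -/
def allowed (N _c d : ℕ) : Bool :=
  bif N == 168 then [2, 3, 4, 7].contains d else bif N == 360 then [2, 3, 4, 5].contains d
    else true

/-- The possible centralizer orders. -/
def divisorsFrom (lo N : ℕ) : List ℕ := (List.range' lo (N - lo)).filter fun d => N % d == 0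

/-- The least centralizer order. -/
def minCn (N : ℕ) : ℕ := bif Nat.blt N 500 then 2 else 5

end Cfsg.Agent.Fus.Ten
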