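import Cfsg.Agent.Lib.Fus.TenClasses.Search

/-!
The search for ten classes at the small orders.
-/

set_option autoImplicit false

namespace Cfsg.Agent.Fus.Ten

/-- The search at one of the small orders. -/
noncomputable def smallAt (N : ℕ) (P : List ℕ) : Bool :=
  fixedN (allowed N) excNone N P 9 [] (divisorsFrom (minCn N) N) (N - 1)

theorem search_60 : smallAt 60 [2, 3, 5] = true := by decide +kernel
theorem search_168 : smallAt 168 [2, 3, 7] = true := by decide +kernel
theorem search_504 : smallAt 504 [2, 3, 7] = true := by decide +kernel
theorem search_660 : smallAt 660 [2, 3, 5, 11] = true := by decide +kernel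
theorem search_1092 : smallAt 1092 [2, 3, 7, 13] = true := by decide +kernel
theorem search_2448 : smallAt 2448 [2, 3, 17] = true := by decide +kernel
theorem search_3420 : smallAt 3420 [2, 3, 5, 19] = true := by decide +kernel
theorem search_4080 : smallAt 4080 [2, 3, 5, 17] = true := by decide +kernel
theorem search_5616 : smallAt 5616 [2, 3, 13] = true := by decide +kernel

end Cfsg.Agent.Fus.Ten
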