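import Cfsg.Agent.Lib.Fus.TenClasses.Phase2

/-!
The finite search for ten classes: what a successful search says about a profile.
-/

set_option autoImplicit false

namespace Cfsg.Agent.Fus.Ten

open Cfsg.Agent.Fus.Nine (Cl blt_false blt_true ble_false forceL_eq)

variable {N : ℕ} {L : List Cl}

theorem leaf_sound {exc : ℕ → List Cl → Bool} {T : ℕ} (h : Prof N L) (hs : Sorted L) (hT : T ≤ N)
    {cs : List CP} {P : List ℕ} {C a l : ℕ} (s : St L cs P [C]) (hl : l ∣ N) (ha : a * (N / l) = 1 + N / C)
    (hlp : ∀ r, r.Prime → r ∣ l → r ∈ P)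
    (hr : forDiv P l (fun X => tryX exc T cs P a l (cs.headD (0, [])).1 X) = true) : exc N L = true := by
  obtain ⟨x, hx, rfl⟩ := s.exists_rest (List.mem_cons_self (a := C) (l := []))
  obtain ⟨hcN, -, -, hlt⟩ := h.basic x hx
  set X := N / x.1
  have hXN : X ∣ N := Nat.div_dvd_of_dvd hcN
  have hl0 : 0 < l := Nat.pos_of_dvd_of_pos hl h.pos
  have hNl : l * (N / l) = N := Nat.mul_div_cancel' hl
  have ha0 : 0 < a := Nat.pos_of_ne_zero fun e => by
    rw [e, zero_mul] at ha
    exact (Nat.add_pos_left Nat.one_pos X).ne ha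
  have hXl : X ∣ l := by
    refine Nat.Coprime.dvd_of_dvd_mul_right ?_ (show X ∣ l * (N / l) by rw [hNl]; exact hXN)
    refine Nat.Coprime.coprime_dvd_right (dvd_mul_left (N / l) a) ?_
    rw [ha, add_comm]
    simp
  have hval := forDiv_sound s.prm hl0 hr hXl fun r hr1 hr2 => hlp r hr1 (hr2.trans hXl)
  have hk : (X + 1) / a = N / l := by
    rw [show X + 1 = a * (N / l) by omega, Nat.mul_div_cancel_left _ ha0]
  have hdvd : a ∣ X + 1 := ⟨N / l, by omega⟩
  have hC : N / X = x.1 := Nat.div_div_self hcN h.pos.ne'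
  rw [tryX, show Nat.beq (Nat.mod (Nat.add X 1) a) 0 = true from mod_beq.2 hdvd, force_eq] at hval
  simp only [Bool.not_true, Bool.false_or] at hval
  rw [show Nat.mul l (Nat.div (Nat.add X 1) a) = N by
      show l * ((X + 1) / a) = N
      rw [hk, hNl], blt_false hT,
    show Nat.beq (Nat.mod N 4) 0 = true from mod_beq.2 h.four, force_eq] at hval
  simp only [Bool.not_true, Bool.false_or] at hval
  rw [show Nat.div N X = x.1 from hC, ble_false hlt,
    blt_false (s.head_le hs (List.mem_cons_self (a := x.1) (l := []))), forceCP_eq] at hval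
  simp only [Bool.false_or] at hval
  have hperm : (x.1 :: cs.map Prod.fst).Perm (L.map Prod.fst) := by
    rw [s.eqn]
    exact ((List.reverse_perm _).symm.cons x.1).trans (List.perm_append_singleton x.1 _).symm
  have hrules := s.rules_sound h hs rfl (good_factor s.prm (h.c_pos hx))
  simp only [List.length_nil] at hrules
  rw [gate_sound h hperm, hrules, forceL_eq] at hval
  simp only [Bool.not_true, Bool.false_or] at hval
  exact phase2_sound h hs (s.push rfl (h.c_pos hx)) (fun _ _ => rfl) hval

theorem search_sound {exc : ℕ → List Cl → Bool} {sel : List CP → Bool} {T : ℕ} (h : Prof N L) (hs : Sorted L)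
    (hT : T ≤ N)
    (hsel : ∀ (cs : List CP) (rest : List ℕ), L.map Prod.fst = (cs.map Prod.fst).reverse ++ rest →
      rest.length = 4 → sel cs = true) :
    ∀ (n : ℕ) (cs : List CP) (P : List ℕ) (lo a l : ℕ) (rest : List ℕ), search exc sel T n cs P lo a l = true →
    St L cs P rest → rest.length = n + 1 → (∀ c ∈ rest, lo ≤ c) → l ∣ N →
    a * (N / l) = 1 + (rest.map (N / ·)).sum → (∀ x ∈ cs, x.1 ∣ l) → (∀ r, r.Prime → r ∣ l → r ∈ P) →
    exc N L = true
  | 0, cs, P, lo, a, l, rest, hr, s, hlen, _, hl, ha, _, hlp => by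
    obtain ⟨C, rfl⟩ := List.length_eq_one_iff.1 hlen
    rw [search, force_eq] at hr
    exact leaf_sound h hs hT s hl (by simpa using ha) hlp hr
  | n + 1, cs, P, lo, a, l, rest, hr, s, hlen, hlo, hl, ha, hcl, hlp => by
    rw [search, force_eq, force_eq, force_eq, force_eq, force_eq] at hr
    rw [show (Nat.beq n 2 && !sel cs) = false by
      by_cases e : n = 2
      · rw [hsel cs rest s.eqn (by omega), Bool.not_true, Bool.and_false]
      · rw [beq_false e, Bool.false_and], Bool.false_or] at hr
    obtain ⟨v, r, rfl⟩ : ∃ v r, rest = v :: r := by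
      rcases rest with _ | ⟨v, r⟩
      · simp at hlen
      · exact ⟨v, r, rfl⟩
    obtain ⟨x, hx, rfl⟩ := s.exists_rest (List.mem_cons_self (a := v) (l := r))
    have hpw : (L.map Prod.fst).Pairwise (· ≤ ·) := List.pairwise_map.2 (hs.imp fun {a b} hab => by omega)
    rw [s.eqn] at hpw
    have hr1 : ∀ c ∈ r, x.1 ≤ c := (List.pairwise_cons.1 (List.pairwise_append.1 hpw).2.1).1
    have hN : 0 < N := h.pos
    have hv0 : 0 < x.1 := h.c_pos hx
    obtain ⟨hvN, -, -, hvlt⟩ := h.basic x hx
    set S := (r.map (N / ·)).sum with hSdef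
    have ha' : a * (N / l) = 1 + (N / x.1 + S) := by simpa using ha
    have hl0 : 0 < l := Nat.pos_of_dvd_of_pos hl hN
    have hNl : l * (N / l) = N := Nat.mul_div_cancel' hl
    have hNv : x.1 * (N / x.1) = N := Nat.mul_div_cancel' hvN
    have hS : x.1 * S ≤ r.length * N := by
      have hh : S ≤ r.length * (N / x.1) := by
        have := List.sum_le_card_nsmul (r.map (N / ·)) (N / x.1) fun b hb => by
          obtain ⟨c, hc, rfl⟩ := List.mem_map.1 hb
          exact Nat.div_le_div_left (hr1 c hc) hv0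
        simpa using this
      calc x.1 * S ≤ x.1 * (r.length * (N / x.1)) := Nat.mul_le_mul_left _ hh
        _ = r.length * (x.1 * (N / x.1)) := by ring
        _ = r.length * N := by rw [hNv]
    have hlen' : r.length = n + 1 := by simpa using hlen
    rw [hlen'] at hS
    have hb1 : x.1 * a * (N / l) = x.1 + N + x.1 * S := by
      calc x.1 * a * (N / l) = x.1 * (a * (N / l)) := by ring
        _ = x.1 + x.1 * (N / x.1) + x.1 * S := by rw [ha']; ring
        _ = _ := by rw [hNv]
    have hb2 : x.1 * a * N = l * (x.1 + N + x.1 * S) := by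
      conv_lhs => rw [← hNl]
      rw [← hb1]; ring
    have hgt : l < x.1 * a := by
      by_contra hc
      have : x.1 * a * N ≤ l * N := Nat.mul_le_mul_right _ (not_lt.1 hc)
      have h2 : l * N < l * (x.1 + N + x.1 * S) := Nat.mul_lt_mul_of_pos_left (by omega) hl0
      rw [← hb2] at h2
      omega
    have ha0 : 0 < a := Nat.pos_of_ne_zero fun e => by simp [e] at hgt
    have hsum : x.1 + N + x.1 * S ≤ (n + 3) * N := by
      calc x.1 + N + x.1 * S ≤ N + N + (n + 1) * N := by omega
        _ = (n + 3) * N := by ring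
    have hu1 : x.1 * a ≤ (n + 3) * l := by
      refine Nat.le_of_mul_le_mul_right ?_ hN
      calc x.1 * a * N = l * (x.1 + N + x.1 * S) := hb2
        _ ≤ l * ((n + 3) * N) := Nat.mul_le_mul_left _ hsum
        _ = (n + 3) * l * N := by ring
    have hup : x.1 ≤ upper T n a l := by
      have h1 : x.1 ≤ (n + 3) * l / a := (Nat.le_div_iff_mul_le ha0).2 hu1
      rw [upper]
      by_cases hcase : l < a * T
      · rw [blt_true hcase, cond_true]
        refine le_min h1 ((Nat.le_div_iff_mul_le (by omega)).2 (Nat.le_of_mul_le_mul_right ?_ hN))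
        have h2 : x.1 * (a * T - l) * N + x.1 * l * N = T * (x.1 * a * N) := by
          have : x.1 * (a * T - l) + x.1 * l = x.1 * (a * T) := by
            rw [← Nat.mul_add, Nat.sub_add_cancel hcase.le]
          rw [← Nat.add_mul, this]; ring
        have h3 : T * (x.1 * a * N) ≤ T * (l * x.1) + (n + 2) * l * T * N := by
          rw [hb2]
          calc T * (l * (x.1 + N + x.1 * S)) ≤ T * (l * (x.1 + N + (n + 1) * N)) :=
                Nat.mul_le_mul_left _ (Nat.mul_le_mul_left _ (by omega))
            _ = _ := by ring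
        have h4 : T * (l * x.1) ≤ x.1 * l * N := by
          calc T * (l * x.1) = x.1 * l * T := by ring
            _ ≤ _ := Nat.mul_le_mul_left _ hT
        omega
      · rw [blt_false (not_lt.1 hcase), cond_false]
        exact h1
    have hlo1 : lo ≤ x.1 := hlo x.1 (by simp)
    set D := Nat.lcm (forcedPair cs (n + 2)) (forcedPrime cs (n + 2)) with hD
    have hDv : D ∣ x.1 := by
      have e : (x.1 :: r).length = n + 2 := by simpa using hlen'
      refine Nat.lcm_dvd ?_ ?_
      · exact e ▸ s.forcedPair_dvd h List.mem_cons_self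
      · exact e ▸ s.forcedPrime_dvd h hs List.mem_cons_self
    have hDpos : 0 < D := Nat.pos_of_dvd_of_pos hDv hv0
    obtain ⟨j, hj⟩ := hDv
    have hj' : j * D = x.1 := by rw [mul_comm, hj]
    have hj0 : (lo + D - 1) / D ≤ j := by
      rw [← Nat.lt_succ_iff, Nat.div_lt_iff_lt_mul hDpos, Nat.succ_mul, hj']
      omega
    have hj1 : j ≤ upper T n a l / D := (Nat.le_div_iff_mul_le hDpos).2 (hj' ▸ hup)
    have hstep := loopR_sound _ _ _ hr j hj0 (by omega)
    rw [show Nat.mul j D = x.1 from hj', show Nat.mul x.1 a = x.1 * a from rfl, ble_false hgt, Bool.false_or, force_eq,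
      forceCP_eq] at hstep
    have hgood := good_factor s.prm hv0
    have hrules := s.rules_sound h hs rfl hgood
    rw [hlen'] at hrules
    rw [hrules, Bool.not_true, Bool.false_or, forceL_eq, force_eq, force_eq] at hstep
    rw [show (Nat.beq n 0 && !quick (cs.headD (0, [])).1 l (bif n == 0 then l ^ 32 else 0) x.1) = false by
      by_cases e : n = 0
      · subst e
        obtain ⟨C, rfl⟩ := List.length_eq_one_iff.1 hlen'
        rw [show ((0 : ℕ) == 0) = true from rfl, cond_true, s.quick_sound h hs hcl, Bool.not_true, Bool.and_false]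
      · rw [beq_false e, Bool.false_and], Bool.false_or] at hstep
    set l' := Nat.lcm l x.1 with hl'def
    have hl'N : l' ∣ N := Nat.lcm_dvd hl hvN
    refine search_sound h hs hT hsel n _ _ x.1 _ l' r hstep (s.push rfl hv0) hlen' hr1 hl'N ?_ ?_ ?_
    · obtain ⟨u, hu⟩ := Nat.dvd_lcm_left l x.1
      obtain ⟨w, hw⟩ := Nat.dvd_lcm_right l x.1
      rw [← hl'def] at hu hw
      obtain ⟨k, hk⟩ := hl'N
      have hk0 : 0 < l' := Nat.pos_of_dvd_of_pos ⟨k, hk⟩ hN
      have e1 : N / l = u * k := by
        rw [hk, hu, mul_assoc, Nat.mul_div_cancel_left _ hl0]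
      have e2 : N / x.1 = w * k := by
        rw [hk, hw, mul_assoc, Nat.mul_div_cancel_left _ hv0]
      have e3 : N / l' = k := by rw [hk, Nat.mul_div_cancel_left _ hk0]
      have e4 : l' / l = u := by rw [hu, Nat.mul_div_cancel_left _ hl0]
      have e5 : l' / x.1 = w := by rw [hw, Nat.mul_div_cancel_left _ hv0]
      rw [e1, e2] at ha'
      rw [e3, e4, e5, Nat.sub_mul, mul_assoc]
      omega
    · intro y hy
      rcases List.mem_cons.1 hy with rfl | hy
      · exact Nat.dvd_lcm_right _ _
      · exact (hcl y hy).trans (Nat.dvd_lcm_left _ _)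
    · intro q hq hql
      rw [addPrimes, List.mem_append]
      by_cases hqP : q ∈ P
      · exact Or.inl hqP
      · refine Or.inr (List.mem_filter.2 ⟨(mem_factor s.prm hv0).2 ⟨hq, ?_⟩, by simpa using hqP⟩)
        exact ((Nat.Prime.dvd_mul hq).1 (hql.trans (Nat.lcm_dvd_mul _ _))).resolve_left fun e => hqP (hlp q hq e)

theorem go_sound (k : ℕ → List ℕ → ℕ → Bool) (r s : ℕ) : ∀ D : List ℕ, fixedN.go N k r s D = true →
    D.Pairwise (· < ·) → (∀ c ∈ D, 0 < c) → ∀ (c0 : ℕ) (rest : List ℕ), (∀ c ∈ c0 :: rest, c ∈ D) →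
    (∀ c ∈ rest, c0 ≤ c) → rest.length + 1 = r → s = N / c0 + (rest.map (N / ·)).sum →
    ∃ D', D'.Pairwise (· < ·) ∧ (∀ c ∈ D', 0 < c) ∧ (∀ c ∈ rest, c ∈ D') ∧ k c0 D' (s - N / c0) = true
  | [], _, _, _, c0, rest, hmem, _, _, _ => by simpa using hmem c0 (by simp)
  | c :: D, hr, hD, hpos, c0, rest, hmem, hle, hlen, hs => by
    rw [fixedN.go, force_eq] at hr
    have hc : 0 < c := hpos c (by simp)
    have hD' := List.pairwise_cons.1 hD
    have hcle : c ≤ c0 := by
      rcases List.mem_cons.1 (hmem c0 (by simp)) with rfl | hh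
      · rfl
      · exact (hD'.1 c0 hh).le
    have hsum : s ≤ r * (N / c) := by
      have h1 : (rest.map (N / ·)).sum ≤ (rest.map (N / ·)).length • (N / c) :=
        List.sum_le_card_nsmul _ _ fun b hb => by
          obtain ⟨e, he, rfl⟩ := List.mem_map.1 hb
          exact Nat.div_le_div_left (hcle.trans (hle e he)) hc
      rw [List.length_map, smul_eq_mul] at h1
      have h2 : N / c0 ≤ N / c := Nat.div_le_div_left hcle hc
      rw [hs, ← hlen, Nat.add_mul, one_mul]
      omega
    rw [blt_false hsum, Bool.false_or, Bool.and_eq_true] at hr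
    rcases eq_or_lt_of_le hcle with rfl | hlt
    · have h1 := hr.1
      rw [blt_false (show N / c ≤ s by omega), Bool.false_or, force_eq] at h1
      exact ⟨_, hD, hpos, fun e he => hmem e (by simp [he]), h1⟩
    · refine go_sound k r s D hr.2 hD'.2 (fun e he => hpos e (by simp [he])) c0 rest (fun e he => ?_) hle hlen hs
      rcases List.mem_cons.1 (hmem e he) with rfl | hh
      · rcases List.mem_cons.1 he with e1 | e1
        · omega
        · have := hle e e1; omega
      · exact hh

theorem fixedN_sound {A : ℕ → ℕ → Bool} {exc : ℕ → List Cl → Bool} {P : List ℕ} (h : Prof N L) (hs : Sorted L)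
    (hA : ∀ x ∈ L, A x.1 x.2 = true) : ∀ (r : ℕ) (cs : List CP) (D : List ℕ) (s : ℕ) (rest : List ℕ),
    fixedN A exc N P r cs D s = true → St L cs P rest → rest.length = r →
    D.Pairwise (· < ·) → (∀ c ∈ D, 0 < c) → (∀ c ∈ rest, c ∈ D) → s = (rest.map (N / ·)).sum → exc N L = true
  | 0, cs, D, s, rest, hr, st, hlen, _, _, _, hsum => by
    rw [List.eq_nil_of_length_eq_zero hlen] at st hsum
    subst hsum
    rw [fixedN] at hr
    simp only [List.map_nil, List.sum_nil, bne_self_eq_false, Bool.false_or] at hr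
    exact phase2_sound h hs st hA hr
  | r + 1, cs, D, s, rest, hr, st, hlen, hD, hpos, hmem, hsum => by
    rcases rest with _ | ⟨c0, rest⟩
    · simp at hlen
    rw [fixedN] at hr
    have hpw : (L.map Prod.fst).Pairwise (· ≤ ·) := List.pairwise_map.2 (hs.imp fun {a b} hab => by omega)
    rw [st.eqn] at hpw
    have hle : ∀ c ∈ rest, c0 ≤ c := (List.pairwise_cons.1 (List.pairwise_append.1 hpw).2.1).1
    obtain ⟨D', hD', hpos', hm', hk⟩ :=
      go_sound _ _ _ D hr hD hpos c0 rest hmem hle (by simpa using hlen) (by simpa using hsum)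
    have hc0 : 0 < c0 := hpos c0 (hmem c0 (by simp))
    have hlen' : rest.length = r := by simpa using hlen
    have hgood := good_factor st.prm hc0
    have hrules := st.rules_sound h hs rfl hgood
    rw [hlen'] at hrules
    rw [forceCP_eq, hrules, Bool.not_true, Bool.false_or] at hk
    refine fixedN_sound h hs hA r _ D' _ rest hk
      ⟨by rw [st.eqn]; simp, List.forall_mem_cons.2 ⟨hgood, st.good⟩, st.prm⟩ hlen' hD' hpos' hm'
      (by rw [hsum]; simp)

end Cfsg.Agent.Fus.Ten
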